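import Groth.Agent.Quot84.Basic

set_option autoImplicit false
universe u
open CategoryTheory AlgebraicGeometry TopologicalSpace Opposite

namespace Quot84

variable {X Y : Scheme.{u}} {G : Type u} [Group G] {ρ : G →* Aut X} {p : X ⟶ Y}

theorem hom_mul (ρ : G →* Aut X) (g h : G) : (ρ (g * h)).hom = (ρ h).hom ≫ (ρ g).hom := by
  rw [map_mul]; rfl

theorem hom_one (ρ : G →* Aut X) : (ρ 1).hom = 𝟙 X := by rw [map_one]; rfl

/-- The action on sections over the preimage of an open. -/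
@[reducible] noncomputable def act (hinv : ∀ g : G, (ρ g).hom ≫ p = p) (U : Y.Opens) :
    MulSemiringAction G Γ(X, p ⁻¹ᵁ U) where
  smul g s := (pull p (ρ g⁻¹).hom (hinv g⁻¹) U).hom s
  one_smul s := by
    change (pull p (ρ 1⁻¹).hom _ U).hom s = s
    rw [pull_congr p (hinv 1⁻¹) (Category.id_comp p) (by rw [inv_one, hom_one]) U, pull_id]; rfl
  mul_smul g h s := by
    change (pull p (ρ (g * h)⁻¹).hom _ U).hom s =
      (pull p (ρ g⁻¹).hom _ U).hom ((pull p (ρ h⁻¹).hom _ U).hom s)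
    rw [pull_congr p (hinv (g * h)⁻¹) (by rw [Category.assoc, hinv h⁻¹, hinv g⁻¹])
      (by rw [mul_inv_rev, hom_mul] : (ρ (g * h)⁻¹).hom = (ρ g⁻¹).hom ≫ (ρ h⁻¹).hom) U,
      pull_comp p (hinv g⁻¹) (hinv h⁻¹)]
    rfl
  smul_zero g := map_zero (pull p (ρ g⁻¹).hom (hinv g⁻¹) U).hom
  smul_add g := map_add (pull p (ρ g⁻¹).hom (hinv g⁻¹) U).hom
  smul_one g := map_one (pull p (ρ g⁻¹).hom (hinv g⁻¹) U).hom
  smul_mul g := map_mul (pull p (ρ g⁻¹).hom (hinv g⁻¹) U).hom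

theorem isInvariant (hp : SGA1.IsQuot ρ p) (U : Y.Opens) :
    letI := act hp.inv U
    letI := (p.app U).hom.toAlgebra
    Algebra.IsInvariant Γ(Y, U) Γ(X, p ⁻¹ᵁ U) G := by
  let := act hp.inv U
  let := (p.app U).hom.toAlgebra
  refine ⟨fun s hs => ?_⟩
  exact (hp.range_iff U s).mpr fun g => by
    have h := hs g⁻¹
    change (pull p (ρ g⁻¹⁻¹).hom _ U).hom s = s at h
    rw [pull_congr p (hp.inv g⁻¹⁻¹) (hp.inv g) (by rw [inv_inv]) U] at h
    exact h

theorem smulCommClass (hp : SGA1.IsQuot ρ p) (U : Y.Opens) :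
    letI := act hp.inv U
    letI := (p.app U).hom.toAlgebra
    SMulCommClass G Γ(Y, U) Γ(X, p ⁻¹ᵁ U) := by
  let := act hp.inv U
  let := (p.app U).hom.toAlgebra
  refine ⟨fun g a s => ?_⟩
  rw [Algebra.smul_def, Algebra.smul_def, MulSemiringAction.smul_mul]
  congr 1
  exact app_pull_apply p (hp.inv g⁻¹) U a

theorem app_isIntegral [Finite G] (hp : SGA1.IsQuot ρ p) (U : Y.Opens) :
    (p.app U).hom.IsIntegral := by
  let := act hp.inv U
  let := (p.app U).hom.toAlgebra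
  have := isInvariant hp U
  exact (Algebra.IsInvariant.isIntegral Γ(Y, U) Γ(X, p ⁻¹ᵁ U) G).isIntegral

theorem isIntegralHom [Finite G] (hp : SGA1.IsQuot ρ p) : IsIntegralHom p :=
  have := hp.affine
  ⟨fun U _ => app_isIntegral hp U⟩

theorem surjective [Finite G] (hp : SGA1.IsQuot ρ p) : Function.Surjective p := by
  intro y
  obtain ⟨U, hU, hyU, -⟩ := exists_isAffineOpen_mem_and_subset (x := y) (U := ⊤) trivial
  have := hp.affine
  have hV : IsAffineOpen (p ⁻¹ᵁ U) := hU.preimage p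
  obtain ⟨P, hP⟩ := RingHom.IsIntegral.comap_surjective (app_isIntegral hp U) (hp.injective U)
    (hU.primeIdealOf ⟨y, hyU⟩)
  refine ⟨hV.fromSpec P, ?_⟩
  have h := congrArg (fun m => m P) (hU.SpecMap_appLE_fromSpec p hV le_rfl)
  change hU.fromSpec (Spec.map (p.appLE U (p ⁻¹ᵁ U) le_rfl) P) = p (hV.fromSpec P) at h
  rw [← h, Scheme.Hom.appLE_eq_app]
  exact (congrArg hU.fromSpec hP).trans (hU.fromSpec_primeIdealOf ⟨y, hyU⟩)

theorem exists_of_base_eq [Finite G] (hp : SGA1.IsQuot ρ p) {x x' : X} (h : p x = p x') :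
    ∃ g : G, (ρ g).hom x = x' := by
  obtain ⟨U, hU, hxU, -⟩ := exists_isAffineOpen_mem_and_subset (x := p x) (U := ⊤) trivial
  have := hp.affine
  have hV : IsAffineOpen (p ⁻¹ᵁ U) := hU.preimage p
  have hx'U : p x' ∈ U := h ▸ hxU
  let := act hp.inv U
  let := (p.app U).hom.toAlgebra
  have := isInvariant hp U
  have := smulCommClass hp U
  let P := hV.primeIdealOf ⟨x, hxU⟩
  let Q := hV.primeIdealOf ⟨x', hx'U⟩
  have hPx : hV.fromSpec P = x := hV.fromSpec_primeIdealOf _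
  have hQx : hV.fromSpec Q = x' := hV.fromSpec_primeIdealOf _
  have hcomm : ∀ R, hU.fromSpec (Spec.map (p.app U) R) = p (hV.fromSpec R) := fun R => by
    have h := congrArg (fun m => m R) (hU.SpecMap_appLE_fromSpec p hV le_rfl)
    rw [Scheme.Hom.appLE_eq_app] at h
    exact h
  have hu : Spec.map (p.app U) P = Spec.map (p.app U) Q :=
    hU.fromSpec.isOpenEmbedding.injective (by rw [hcomm, hcomm, hPx, hQx, h])
  obtain ⟨g, hg⟩ := Algebra.IsInvariant.exists_smul_of_under_eq Γ(Y, U) Γ(X, p ⁻¹ᵁ U) G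
    P.asIdeal Q.asIdeal (congrArg PrimeSpectrum.asIdeal hu)
  refine ⟨g, ?_⟩
  have h2 := congrArg (fun m => m P)
    (hV.SpecMap_appLE_fromSpec (ρ g).hom hV (SGA1.preimage_le_of_inv ρ p hp.inv g U))
  change hV.fromSpec (Spec.map (pull p (ρ g).hom (hp.inv g) U) P) =
    (ρ g).hom (hV.fromSpec P) at h2
  rw [hPx] at h2
  rw [← h2, ← hQx]
  refine congrArg hV.fromSpec (PrimeSpectrum.ext ?_)
  rw [hg]
  ext a
  rw [Ideal.mem_pointwise_smul_iff_inv_smul_mem]
  change _ ↔ (pull p (ρ g⁻¹⁻¹).hom _ U).hom a ∈ P.asIdeal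
  rw [pull_congr p (hp.inv g⁻¹⁻¹) (hp.inv g) (by rw [inv_inv]) U]
  rfl

theorem base_eq_iff [Finite G] (hp : SGA1.IsQuot ρ p) (x x' : X) :
    p x = p x' ↔ ∃ g : G, (ρ g).hom x = x' := by
  refine ⟨exists_of_base_eq hp, ?_⟩
  rintro ⟨g, rfl⟩
  rw [← Scheme.Hom.comp_apply, hp.inv g]

theorem isQuotientMap [Finite G] (hp : SGA1.IsQuot ρ p) : Topology.IsQuotientMap p :=
  have := isIntegralHom hp
  p.isClosedMap.isQuotientMap p.continuous (surjective hp)

/-- `Spec A ⟶ Spec A^G` is a quotient. -/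
theorem isQuot_Spec {A B : CommRingCat.{u}} (φ : B ⟶ A) [Finite G]
    (ρ : G →* Aut (Spec A)) (σ : G → (A ⟶ A)) (hσ : ∀ g, φ ≫ σ g = φ)
    (hinj : Function.Injective φ.hom)
    (hfix : ∀ a, (∀ g, (σ g).hom a = a) → a ∈ Set.range φ.hom)
    (hρ : Set.range (fun g : G => (ρ g).hom) = Set.range (fun g : G => Spec.map (σ g))) :
    SGA1.IsQuot ρ (Spec.map φ) := by
  have hinv : ∀ g : G, (ρ g).hom ≫ Spec.map φ = Spec.map φ := by
    intro g
    obtain ⟨h, hh⟩ : (ρ g).hom ∈ Set.range (fun g : G => Spec.map (σ g)) := hρ ▸ ⟨g, rfl⟩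
    change Spec.map (σ h) = _ at hh
    rw [← hh, ← Spec.map_comp, hσ]
  have nat := Scheme.ΓSpecIso_naturality φ
  have napp : ∀ t, (Scheme.ΓSpecIso A).hom.hom ((Spec.map φ).appTop.hom t) =
      φ.hom ((Scheme.ΓSpecIso B).hom.hom t) := fun t => by
    rw [← CommRingCat.comp_apply, ← CommRingCat.comp_apply, nat]
  have iA : Function.Injective (Scheme.ΓSpecIso A).hom.hom :=
    (Scheme.ΓSpecIso A).commRingCatIsoToRingEquiv.injective
  have iB : Function.Bijective (Scheme.ΓSpecIso B).hom.hom :=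
    (Scheme.ΓSpecIso B).commRingCatIsoToRingEquiv.bijective
  refine isQuot_of_affine_cover (Spec.map φ) ρ inferInstance hinv (ι := Unit) (fun _ => ⊤)
    (fun _ => isAffineOpen_top _) (fun _ => ⟨(), trivial⟩) ?_ ?_
  · intro _ s t hst
    refine iB.1 (hinj ?_)
    rw [← napp, ← napp]
    exact congrArg _ hst
  · intro _ s hs
    have : ∀ g, (σ g).hom ((Scheme.ΓSpecIso A).hom.hom s) = (Scheme.ΓSpecIso A).hom.hom s := by
      intro g
      obtain ⟨h, hh⟩ : Spec.map (σ g) ∈ Set.range (fun g : G => (ρ g).hom) := hρ ▸ ⟨g, rfl⟩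
      change (ρ h).hom = _ at hh
      have e : pull (Spec.map φ) (Spec.map (σ g)) (hh ▸ hinv h) ⊤ = (Spec.map (σ g)).appTop := by
        unfold pull; exact Scheme.Hom.appLE_eq_app _
      have h1 := hs h
      rw [pull_congr _ (hinv h) (hh ▸ hinv h) hh, e] at h1
      exact ((congrArg (fun m => m.hom s) (Scheme.ΓSpecIso_naturality (σ g))).symm).trans
        (congrArg (Scheme.ΓSpecIso A).hom.hom h1)
    obtain ⟨b, hb⟩ := hfix _ this
    obtain ⟨t, ht⟩ := iB.2 b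
    refine ⟨t, iA ?_⟩
    rw [← hb, ← ht]
    exact napp t

end Quot84
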