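import Groth.Agent.Quot84.Desc

/-! # Flat base change of quotients by finite groups -/

set_option autoImplicit false
universe u
open CategoryTheory CategoryTheory.Limits AlgebraicGeometry TopologicalSpace Opposite TensorProduct

namespace Quot84

theorem flat_invariants {R A B : Type*} [CommRing R] [CommRing A] [CommRing B] [Algebra R A]
    [Algebra R B] [Module.Flat R B] {ι : Type*} [Finite ι] (σ : ι → A →ₗ[R] A)
    (hinj : Function.Injective (algebraMap R A))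
    (hfix : ∀ a, (∀ i, σ i a = a) → a ∈ Set.range (algebraMap R A))
    (hone : ∀ i, σ i 1 = 1) :
    Function.Injective (fun b : B => b ⊗ₜ[R] (1 : A)) ∧
      ∀ c : B ⊗[R] A, (∀ i, (σ i).lTensor B c = c) → ∃ b : B, b ⊗ₜ[R] 1 = c := by
  classical
  cases nonempty_fintype ι
  let ψ : A →ₗ[R] (ι → A) := LinearMap.pi fun i => σ i - LinearMap.id
  let φ : R →ₗ[R] A := Algebra.linearMap R A
  have hex : Function.Exact φ ψ := by
    intro a
    constructor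
    · intro h
      exact hfix a fun i => sub_eq_zero.mp (congrFun h i)
    · rintro ⟨r, rfl⟩
      funext i
      simp [ψ, φ, Algebra.algebraMap_eq_smul_one, map_smul, hone]
  have hφ : ∀ b : B, φ.lTensor B ((TensorProduct.rid R B).symm b) = b ⊗ₜ[R] (1 : A) :=
    fun b => by simp [φ]
  constructor
  · intro b b' h
    simp only [← hφ] at h
    exact (TensorProduct.rid R B).symm.injective
      (Module.Flat.lTensor_preserves_injective_linearMap φ hinj h)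
  · intro c hc
    have hz : ψ.lTensor B c = 0 := by
      apply (TensorProduct.piRight R R B (fun _ : ι => A)).injective
      funext i
      have : ∀ x : B ⊗[R] A, TensorProduct.piRight R R B (fun _ : ι => A) (ψ.lTensor B x) i =
          (σ i).lTensor B x - x := by
        intro x
        induction x with
        | zero => simp
        | tmul b a => simp [ψ, TensorProduct.tmul_sub]
        | add x y hx hy => simp only [map_add, Pi.add_apply, hx, hy]; abel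
      rw [this, hc i, sub_self, map_zero]
      rfl
    obtain ⟨d, rfl⟩ := (Module.Flat.lTensor_exact B hex c).mp hz
    refine ⟨TensorProduct.rid R B d, ?_⟩
    rw [← hφ, LinearEquiv.symm_apply_apply]

variable {X Y X' Y' : Scheme.{u}} {G : Type u} [Group G] [Finite G] {ρ : G →* Aut X} {p : X ⟶ Y}

theorem flat_baseChange (hp : SGA1.IsQuot ρ p) (qY : Y' ⟶ Y) [Flat qY] (pX : X' ⟶ X) (p' : X' ⟶ Y')
    (hX : IsPullback pX p' p qY) (ρ' : G →* Aut X')
    (hρ₁ : ∀ g : G, (ρ' g).hom ≫ pX = pX ≫ (ρ g).hom)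
    (hρ₂ : ∀ g : G, (ρ' g).hom ≫ p' = p') : SGA1.IsQuot ρ' p' := by
  have := hp.affine
  have haff : IsAffineHom p' := MorphismProperty.of_isPullback (P := @IsAffineHom) hX hp.affine
  let ι := {i : Y.Opens × Y'.Opens // IsAffineOpen i.1 ∧ IsAffineOpen i.2 ∧ i.2 ≤ qY ⁻¹ᵁ i.1}
  suffices key : ∀ i : ι, Function.Injective (p'.app i.1.2).hom ∧
      ∀ s : Γ(X', p' ⁻¹ᵁ i.1.2), (∀ g : G, (pull p' (ρ' g).hom (hρ₂ g) i.1.2).hom s = s) →
        s ∈ Set.range (p'.app i.1.2).hom by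
    refine isQuot_of_affine_cover p' ρ' haff hρ₂ (fun i : ι => i.1.2) (fun i => i.2.2.1) ?_
      (fun i => (key i).1) (fun i => (key i).2)
    intro y
    obtain ⟨U, hU, hyU, -⟩ := exists_isAffineOpen_mem_and_subset (x := qY y) (U := ⊤) trivial
    obtain ⟨V, hV, hyV, hVU⟩ :=
      exists_isAffineOpen_mem_and_subset (x := y) (U := qY ⁻¹ᵁ U) hyU
    exact ⟨⟨(U, V), hU, hV, hVU⟩, hyV⟩
  rintro ⟨⟨U, V⟩, hU, hV, hVU⟩
  dsimp only at hU hV hVU ⊢
  have hW : p' ⁻¹ᵁ V ≤ pX ⁻¹ᵁ (p ⁻¹ᵁ U) := by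
    rw [← Scheme.Hom.comp_preimage, hX.w, Scheme.Hom.comp_preimage]
    exact p'.preimage_mono hVU
  have hpo := (isIso_pushoutSection_iff (US := U) (UT := p ⁻¹ᵁ U) (UX := V) (UY := p' ⁻¹ᵁ V)
    hX.flip le_rfl hVU (inf_eq_left.mpr hW).symm).mp
      (isIso_pushoutSection_of_isAffineOpen hX.flip le_rfl hVU _ hU (hU.preimage p) hV)
  let := (qY.appLE U V hVU).hom.toAlgebra
  let := (p.appLE U (p ⁻¹ᵁ U) le_rfl).hom.toAlgebra
  let := (p'.appLE V (p' ⁻¹ᵁ V) le_rfl).hom.toAlgebra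
  let := (pX.appLE (p ⁻¹ᵁ U) (p' ⁻¹ᵁ V) hW).hom.toAlgebra
  let := ((qY.appLE U V hVU) ≫ (p'.appLE V (p' ⁻¹ᵁ V) le_rfl)).hom.toAlgebra
  have := IsScalarTower.of_algebraMap_eq' (R := Γ(Y, U)) (S := Γ(Y', V))
    (A := Γ(X', p' ⁻¹ᵁ V)) rfl
  have := IsScalarTower.of_algebraMap_eq' (R := Γ(Y, U)) (S := Γ(X, p ⁻¹ᵁ U))
    (A := Γ(X', p' ⁻¹ᵁ V)) congr($(hpo.w).hom)
  have hp' : Algebra.IsPushout Γ(Y, U) Γ(Y', V) Γ(X, p ⁻¹ᵁ U) Γ(X', p' ⁻¹ᵁ V) :=
    CommRingCat.isPushout_iff_isPushout.mp hpo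
  have : Module.Flat Γ(Y, U) Γ(Y', V) := qY.flat_appLE hU hV hVU
  have happ : ∀ t, algebraMap Γ(Y, U) Γ(X, p ⁻¹ᵁ U) t = (p.app U).hom t := fun t => by
    change (p.appLE U (p ⁻¹ᵁ U) le_rfl).hom t = _
    rw [Scheme.Hom.appLE_eq_app]
  have happ' : ∀ t, algebraMap Γ(Y', V) Γ(X', p' ⁻¹ᵁ V) t = (p'.app V).hom t := fun t => by
    change (p'.appLE V (p' ⁻¹ᵁ V) le_rfl).hom t = _
    rw [Scheme.Hom.appLE_eq_app]
  let σ : G → Γ(X, p ⁻¹ᵁ U) →ₗ[Γ(Y, U)] Γ(X, p ⁻¹ᵁ U) := fun g =>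
    { toFun := (pull p (ρ g).hom (hp.inv g) U).hom
      map_add' := map_add _
      map_smul' := fun r a => by
        rw [Algebra.smul_def, map_mul, RingHom.id_apply, Algebra.smul_def, happ, app_pull_apply] }
  obtain ⟨hi, hr⟩ := flat_invariants (B := Γ(Y', V)) σ
    (fun a b h => hp.injective U (by rw [← happ, ← happ, h]))
    (fun a ha => by
      obtain ⟨t, rfl⟩ := (hp.range_iff U a).mpr ha
      exact ⟨t, happ t⟩)
    (fun g => map_one (pull p (ρ g).hom (hp.inv g) U).hom)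
  let e := hp'.out.equiv
  have he : ∀ (b : Γ(Y', V)) (a : Γ(X, p ⁻¹ᵁ U)),
      e (b ⊗ₜ a) = (p'.app V).hom b * (pX.appLE (p ⁻¹ᵁ U) (p' ⁻¹ᵁ V) hW).hom a := fun b a => by
    rw [IsBaseChange.equiv_tmul, Algebra.smul_def, happ']
    rfl
  have he1 : ∀ b, (p'.app V).hom b = e (b ⊗ₜ 1) := fun b => by rw [he, map_one, mul_one]
  have heq : ∀ g c, e ((σ g).lTensor Γ(Y', V) c) =
      (pull p' (ρ' g).hom (hρ₂ g) V).hom (e c) := by
    intro g c
    induction c with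
    | zero => simp
    | add x y hx hy => simp only [map_add, hx, hy]
    | tmul b a =>
      rw [LinearMap.lTensor_tmul, he, he, map_mul, app_pull_apply]
      congr 1
      change (((ρ g).hom.appLE (p ⁻¹ᵁ U) (p ⁻¹ᵁ U) _) ≫ pX.appLE _ _ hW).hom a =
        ((pX.appLE _ _ hW) ≫ (ρ' g).hom.appLE _ _ _).hom a
      rw [Scheme.Hom.appLE_comp_appLE, Scheme.Hom.appLE_comp_appLE]
      have key : ∀ (q q' : X' ⟶ X) (_ : q = q') (e₁ : p' ⁻¹ᵁ V ≤ q ⁻¹ᵁ (p ⁻¹ᵁ U))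
          (e₂ : p' ⁻¹ᵁ V ≤ q' ⁻¹ᵁ (p ⁻¹ᵁ U)), q.appLE _ _ e₁ = q'.appLE _ _ e₂ := by
        rintro q _ rfl e₁ e₂; rfl
      rw [key _ _ (hρ₁ g).symm]
  constructor
  · intro b b' h
    rw [he1, he1] at h
    exact hi (e.injective h)
  · intro s hs
    obtain ⟨c, rfl⟩ := e.surjective s
    obtain ⟨b, rfl⟩ := hr c fun g => e.injective ((heq g c).trans (hs g))
    exact ⟨b, he1 b⟩

end Quot84
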