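import Groth.Agent.Quot84.Free

/-! # Quotients by free actions: trivialisation by a section, torsor property -/

set_option autoImplicit false
universe u
open CategoryTheory CategoryTheory.Limits AlgebraicGeometry TopologicalSpace Opposite

namespace Quot84

variable {X Y : Scheme.{u}} {G : Type u} [Group G] [Finite G] {ρ : G →* Aut X} {p : X ⟶ Y}

/-- Freeness on geometric points. -/
def IsFree (ρ : G →* Aut X) : Prop :=
  ∀ (K : Type u) [Field K] [IsAlgClosed K] (ξ : Spec (CommRingCat.of K) ⟶ X) (g : G),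
    ξ ≫ (ρ g).hom = ξ → g = 1

omit [Finite G] in
theorem span_eq_top (hp : SGA1.IsQuot ρ p) (hfree : IsFree ρ) {U : Y.Opens} (hU : IsAffineOpen U)
    (g : G) (hg : g ≠ 1) :
    letI := act hp.inv U
    Ideal.span (Set.range fun a : Γ(X, p ⁻¹ᵁ U) => g • a - a) = ⊤ := by
  let := act hp.inv U
  have := hp.affine
  have hV : IsAffineOpen (p ⁻¹ᵁ U) := hU.preimage p
  by_contra h
  obtain ⟨m, hm, hle⟩ := Ideal.exists_le_maximal _ h
  let := Ideal.Quotient.field m
  let φ : Γ(X, p ⁻¹ᵁ U) ⟶ CommRingCat.of (AlgebraicClosure (Γ(X, p ⁻¹ᵁ U) ⧸ m)) :=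
    CommRingCat.ofHom ((algebraMap (Γ(X, p ⁻¹ᵁ U) ⧸ m) _).comp (Ideal.Quotient.mk m))
  refine hg (inv_eq_one.mp (hfree _ (Spec.map φ ≫ hV.fromSpec) g⁻¹ ?_))
  rw [Category.assoc, ← hV.SpecMap_appLE_fromSpec (ρ g⁻¹).hom hV
    (SGA1.preimage_le_of_inv ρ p hp.inv g⁻¹ U), ← Category.assoc, ← Spec.map_comp]
  congr 2
  ext a
  have : g • a - a ∈ m := hle (Ideal.subset_span ⟨a, rfl⟩)
  exact congrArg (algebraMap (Γ(X, p ⁻¹ᵁ U) ⧸ m) _) ((Ideal.Quotient.mk_eq_mk_iff_sub_mem _ _).mpr this)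

theorem hasGalCoord_app [DecidableEq G] (hp : SGA1.IsQuot ρ p) (hfree : IsFree ρ) {U : Y.Opens}
    (hU : IsAffineOpen U) :
    letI := act hp.inv U
    letI := Fintype.ofFinite G
    HasGalCoord Γ(X, p ⁻¹ᵁ U) G :=
  letI := act hp.inv U
  letI := Fintype.ofFinite G
  hasGalCoord fun g hg => span_eq_top hp hfree hU g hg

theorem flat_of_free (hp : SGA1.IsQuot ρ p) (hfree : IsFree ρ) : Flat p := by
  classical
  let := Fintype.ofFinite G
  have := hp.affine
  rw [IsZariskiLocalAtTarget.iff_of_iSup_eq_top (P := @Flat) _ (iSup_affineOpens_eq_top Y)]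
  intro U
  have : IsAffine U.1.toScheme := U.2
  have : IsAffine (p ⁻¹ᵁ U.1).toScheme := U.2.preimage p
  rw [HasRingHomProperty.iff_of_isAffine (P := @Flat), morphismRestrict_appTop]
  have hU : IsAffineOpen (U.1.ι ''ᵁ ⊤) := by
    rw [Scheme.Opens.ι_image_top]; exact U.2
  refine RingHom.Flat.comp ?_ (RingHom.Flat.of_bijective
    (ConcreteCategory.bijective_of_isIso _))
  let := act hp.inv (U.1.ι ''ᵁ ⊤)
  let := (p.app (U.1.ι ''ᵁ ⊤)).hom.toAlgebra
  have := isInvariant hp (U.1.ι ''ᵁ ⊤)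
  have := smulCommClass hp (U.1.ι ''ᵁ ⊤)
  change Module.Flat Γ(Y, U.1.ι ''ᵁ ⊤) Γ(X, p ⁻¹ᵁ (U.1.ι ''ᵁ ⊤))
  exact flat_of_hasGalCoord (G := G) (hp.injective _) (hasGalCoord_app hp hfree hU)

theorem app_section {s : Y ⟶ X} (hs : s ≫ p = 𝟙 Y) {U : Y.Opens} (e : U ≤ s ⁻¹ᵁ (p ⁻¹ᵁ U))
    (t : Γ(Y, U)) : (s.appLE (p ⁻¹ᵁ U) U e).hom ((p.app U).hom t) = t := by
  rw [← CommRingCat.comp_apply, p.app_eq_appLE, Scheme.Hom.appLE_comp_appLE]
  have key : ∀ (q : Y ⟶ Y) (_ : q = 𝟙 Y) (e' : U ≤ q ⁻¹ᵁ U), (q.appLE U U e').hom t = t := by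
    rintro _ rfl e'
    rw [show (𝟙 Y : Y ⟶ Y).appLE U U e' = 𝟙 _ by
      simp [Scheme.Hom.appLE]; exact Y.presheaf.map_id _]
    rfl
  exact key _ hs _

theorem isIso_sigmaDesc_of_section (hp : SGA1.IsQuot ρ p) (hfree : IsFree ρ) (s : Y ⟶ X)
    (hs : s ≫ p = 𝟙 Y) : IsIso (Sigma.desc (fun g : G => s ≫ (ρ g).hom)) := by
  classical
  let := Fintype.ofFinite G
  have := hp.affine
  have hsg : ∀ g, (s ≫ (ρ g).hom) ≫ p = 𝟙 Y := fun g => by rw [Category.assoc, hp.inv g, hs]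
  have hpt : ∀ g y, p ((s ≫ (ρ g).hom) y) = y := fun g y => by
    rw [← Scheme.Hom.comp_apply, hsg]; rfl
  have hle : ∀ g (U : Y.Opens), U ≤ (s ≫ (ρ g).hom) ⁻¹ᵁ (p ⁻¹ᵁ U) := fun g U y hy => by
    change p ((s ≫ (ρ g).hom) y) ∈ U
    rw [hpt]; exact hy
  have hcov : ∀ x : X, ∃ g, (s ≫ (ρ g).hom) (p x) = x := fun x => by
    obtain ⟨g, hg⟩ := exists_of_base_eq hp (x := s (p x)) (x' := x)
      (by rw [← Scheme.Hom.comp_apply, hs]; rfl)
    exact ⟨g, hg⟩
  have main : ∀ U : Y.Opens, IsAffineOpen U → ∃ E : G → Γ(X, p ⁻¹ᵁ U),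
      (∀ g g', ((s ≫ (ρ g).hom).appLE (p ⁻¹ᵁ U) U (hle g U)).hom (E g') =
        if g = g' then 1 else 0) ∧
      ∀ a, (∀ g, ((s ≫ (ρ g).hom).appLE (p ⁻¹ᵁ U) U (hle g U)).hom a = 0) → a = 0 := by
    intro U hU
    let := act hp.inv U
    let := (p.app U).hom.toAlgebra
    have := isInvariant hp U
    have := smulCommClass hp U
    have e0 : U ≤ s ⁻¹ᵁ (p ⁻¹ᵁ U) := by rw [← Scheme.Hom.comp_preimage, hs]; exact le_rfl
    let e : Γ(X, p ⁻¹ᵁ U) →ₐ[Γ(Y, U)] Γ(Y, U) :=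
      { (s.appLE (p ⁻¹ᵁ U) U e0).hom with commutes' := app_section hs e0 }
    have hφ : ∀ g a, ((s ≫ (ρ g).hom).appLE (p ⁻¹ᵁ U) U (hle g U)).hom a = e (g⁻¹ • a) := by
      intro g a
      rw [← Scheme.Hom.appLE_comp_appLE s (ρ g).hom (p ⁻¹ᵁ U) (p ⁻¹ᵁ U) U
        (SGA1.preimage_le_of_inv ρ p hp.inv g U) e0]
      change (s.appLE _ _ _).hom ((pull p (ρ g).hom (hp.inv g) U).hom a) =
        (s.appLE _ _ _).hom ((pull p (ρ g⁻¹⁻¹).hom _ U).hom a)
      rw [pull_congr p (hp.inv g⁻¹⁻¹) (hp.inv g) (by rw [inv_inv]) U]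
    obtain ⟨E, hE, hinj⟩ := exists_idempotents (hasGalCoord_app hp hfree hU) e
    refine ⟨fun g => E g⁻¹, fun g g' => ?_, fun a ha => hinj a fun g => ?_⟩
    · rw [hφ, hE]; simp
    · have := ha g⁻¹
      rwa [hφ, inv_inv] at this
  have hdisj : ∀ g h y y', (s ≫ (ρ g).hom) y = (s ≫ (ρ h).hom) y' → g = h := by
    intro g h y y' he
    have hy : y = y' := by rw [← hpt g y, ← hpt h y', he]
    subst hy
    obtain ⟨U, hU, hyU, -⟩ := exists_isAffineOpen_mem_and_subset (x := y) (U := ⊤) trivial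
    have hV : IsAffineOpen (p ⁻¹ᵁ U) := hU.preimage p
    obtain ⟨E, hE, -⟩ := main U hU
    let z := hU.primeIdealOf ⟨y, hyU⟩
    have hz : ∀ g, hV.fromSpec (Spec.map ((s ≫ (ρ g).hom).appLE (p ⁻¹ᵁ U) U (hle g U)) z) =
        (s ≫ (ρ g).hom) y := fun g => by
      have := congrArg (fun m => m z) (hV.SpecMap_appLE_fromSpec (s ≫ (ρ g).hom) hU (hle g U))
      refine this.trans ?_
      exact congrArg (s ≫ (ρ g).hom) (hU.fromSpec_primeIdealOf ⟨y, hyU⟩)
    have heq := hV.fromSpec.isOpenEmbedding.injective (((hz g).trans he).trans (hz h).symm)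
    by_contra hne
    have h0 : E g ∈ (Spec.map ((s ≫ (ρ h).hom).appLE (p ⁻¹ᵁ U) U (hle h U)) z).asIdeal := by
      change ((s ≫ (ρ h).hom).appLE (p ⁻¹ᵁ U) U (hle h U)).hom (E g) ∈ z.asIdeal
      rw [hE, if_neg (Ne.symm hne)]; exact z.asIdeal.zero_mem
    rw [← heq] at h0
    change ((s ≫ (ρ g).hom).appLE (p ⁻¹ᵁ U) U (hle g U)).hom (E g) ∈ z.asIdeal at h0
    rw [hE, if_pos rfl] at h0
    exact z.isPrime.ne_top ((Ideal.eq_top_iff_one _).mpr h0)
  have hopen : ∀ g U, IsAffineOpen U → ∀ hU : IsAffineOpen U,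
      IsOpenImmersion (hU.fromSpec ≫ s ≫ (ρ g).hom) := by
    intro g U _ hU
    have hV : IsAffineOpen (p ⁻¹ᵁ U) := hU.preimage p
    rw [← hV.SpecMap_appLE_fromSpec (s ≫ (ρ g).hom) hU (hle g U)]
    obtain ⟨E, hE, hinj⟩ := main U hU
    let φ := (s ≫ (ρ g).hom).appLE (p ⁻¹ᵁ U) U (hle g U)
    let := φ.hom.toAlgebra
    have hidem : IsIdempotentElem (E g) := sub_eq_zero.mp (hinj _ fun h => by
      rw [map_sub, map_mul, hE]; split_ifs <;> simp)
    have hsurj : Function.Surjective φ.hom := fun t => ⟨(p.app U).hom t, by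
      rw [← CommRingCat.comp_apply, p.app_eq_appLE, Scheme.Hom.appLE_comp_appLE]
      have key : ∀ (q : Y ⟶ Y) (_ : q = 𝟙 Y) (e' : U ≤ q ⁻¹ᵁ U),
          (q.appLE U U e').hom t = t := by
        rintro _ rfl e'
        rw [show (𝟙 Y : Y ⟶ Y).appLE U U e' = 𝟙 _ by
          simp [Scheme.Hom.appLE]; exact Y.presheaf.map_id _]
        rfl
      exact key _ (hsg g) _⟩
    have hker : RingHom.ker φ.hom = Ideal.span {1 - E g} := by
      refine le_antisymm (fun a ha => Ideal.mem_span_singleton.mpr ⟨a, ?_⟩) ?_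
      · have : a * E g = 0 := hinj _ fun h => by
          rw [map_mul, hE]
          split_ifs with hh
          · subst hh; rw [mul_one]; exact ha
          · rw [mul_zero]
        rw [sub_mul, one_mul, mul_comm, this, sub_zero]
      · rw [Ideal.span_le, Set.singleton_subset_iff]
        change φ.hom (1 - E g) = 0
        rw [map_sub, map_one, show φ.hom (E g) = 1 by rw [hE, if_pos rfl], sub_self]
    have : IsLocalization.Away (E g) Γ(Y, U) :=
      IsLocalization.away_of_isIdempotentElem hidem hker hsurj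
    have : IsOpenImmersion (Spec.map φ) := IsOpenImmersion.of_isLocalization (E g)
    infer_instance
  have : ∀ g, IsOpenImmersion (s ≫ (ρ g).hom) := by
    intro g
    have hinj : Function.Injective (s ≫ (ρ g).hom) := fun y y' h => by
      rw [← hpt g y, ← hpt g y', h]
    refine IsOpenImmersion.iff_isIso_stalkMap.mpr ⟨.of_continuous_injective_isOpenMap
      (Scheme.Hom.continuous _) hinj ?_, ?_⟩
    · intro W hW
      rw [isOpen_iff_forall_mem_open]
      rintro _ ⟨y, hy, rfl⟩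
      obtain ⟨U, hU, hyU, -⟩ := exists_isAffineOpen_mem_and_subset (x := y) (U := ⊤) trivial
      have := hopen g U hU hU
      refine ⟨(hU.fromSpec ≫ s ≫ (ρ g).hom) '' (hU.fromSpec ⁻¹' W), ?_,
        (hU.fromSpec ≫ s ≫ (ρ g).hom).isOpenEmbedding.isOpenMap _
          (hW.preimage hU.fromSpec.continuous), ?_⟩
      · rintro _ ⟨z, hz, rfl⟩
        exact ⟨hU.fromSpec z, hz, rfl⟩
      · exact ⟨hU.primeIdealOf ⟨y, hyU⟩,
          show hU.fromSpec _ ∈ W by rw [hU.fromSpec_primeIdealOf]; exact hy,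
          congrArg (s ≫ (ρ g).hom) (hU.fromSpec_primeIdealOf ⟨y, hyU⟩)⟩
    · intro y
      obtain ⟨U, hU, hyU, -⟩ := exists_isAffineOpen_mem_and_subset (x := y) (U := ⊤) trivial
      obtain ⟨z, rfl⟩ : ∃ z, hU.fromSpec z = y := ⟨_, hU.fromSpec_primeIdealOf ⟨y, hyU⟩⟩
      have := hopen g U hU hU
      have h := Scheme.Hom.stalkMap_comp hU.fromSpec (s ≫ (ρ g).hom) z
      have : IsIso ((s ≫ (ρ g).hom).stalkMap (hU.fromSpec z) ≫ hU.fromSpec.stalkMap z) := by
        rw [← h]; exact (IsOpenImmersion.iff_isIso_stalkMap.mp this).2 z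
      exact IsIso.of_isIso_comp_right _ (hU.fromSpec.stalkMap z)
  obtain ⟨hc⟩ := nonempty_isColimit_cofanMk_of (fun g => s ≫ (ρ g).hom) (by
    rw [eq_top_iff]
    intro x _
    obtain ⟨g, hg⟩ := hcov x
    exact Opens.mem_iSup.mpr ⟨g, p x, hg⟩) (fun g h hne => by
    rw [Function.onFun, disjoint_iff, eq_bot_iff]
    rintro x ⟨⟨y, hy⟩, ⟨y', hy'⟩⟩
    exact hne (hdisj g h y y' (hy.trans hy'.symm)))
  have h := (Cofan.nonempty_isColimit_iff_isIso_sigmaDesc _).mp ⟨hc⟩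
  exact h

/-- The torsor property. -/
theorem isIso_torsor (hp : SGA1.IsQuot ρ p) (hfree : IsFree ρ) :
    IsIso (Sigma.desc (fun g : G => pullback.lift (𝟙 X) (ρ g).hom
      ((Category.id_comp p).trans (hp.inv g).symm))) := by
  have := flat_of_free hp hfree
  let r : G → (pullback p p ⟶ pullback p p) := fun g => pullback.lift (pullback.fst p p)
    (pullback.snd p p ≫ (ρ g).hom) (by rw [Category.assoc, hp.inv g, pullback.condition])
  have hr : ∀ g h, r (g * h) = r h ≫ r g := fun g h => by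
    apply pullback.hom_ext <;>
      simp only [r, hom_mul, Category.assoc, pullback.lift_fst, pullback.lift_snd,
        pullback.lift_snd_assoc]
  have h1 : r 1 = 𝟙 _ := by
    apply pullback.hom_ext <;>
      simp only [r, hom_one, Category.id_comp, Category.comp_id, pullback.lift_fst, pullback.lift_snd]
  let ρ' : G →* Aut (pullback p p) :=
  { toFun := fun g => ⟨r g, r g⁻¹, by rw [← hr, inv_mul_cancel, h1], by
      rw [← hr, mul_inv_cancel, h1]⟩
    map_one' := Iso.ext h1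
    map_mul' := fun g h => Iso.ext (hr g h) }
  have hρ : ∀ g, (ρ' g).hom ≫ pullback.snd p p = pullback.snd p p ≫ (ρ g).hom := fun g =>
    pullback.lift_snd _ _ _
  have hq : SGA1.IsQuot ρ' (pullback.fst p p) :=
    flat_baseChange hp p (pullback.snd p p) (pullback.fst p p)
      (IsPullback.of_hasPullback p p).flip ρ' hρ fun g => pullback.lift_fst _ _ _
  have hfree' : IsFree ρ' := fun K _ _ ξ g h => hfree K (ξ ≫ pullback.snd p p) g (by
    rw [Category.assoc, ← hρ, ← Category.assoc, h])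
  have h := isIso_sigmaDesc_of_section hq hfree' (pullback.lift (𝟙 X) (𝟙 X) rfl)
    (pullback.lift_fst _ _ _)
  convert h using 3
  apply pullback.hom_ext <;>
    simp only [ρ', r, MonoidHom.coe_mk, OneHom.coe_mk, Category.assoc, pullback.lift_fst,
      pullback.lift_snd, pullback.lift_snd_assoc, Category.id_comp]

end Quot84
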