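import Groth.Prelude.Def_SGA1
import Mathlib

/-! # Basic facts on quotients by finite groups (`SGA1.IsQuot`) -/

set_option autoImplicit false
universe u
open CategoryTheory AlgebraicGeometry TopologicalSpace Opposite

namespace Quot84

variable {X Y : Scheme.{u}}

/-- Pullback of sections over `p⁻¹U` along a `Y`-endomorphism `f` of `X`. -/
noncomputable def pull (p : X ⟶ Y) (f : X ⟶ X) (hf : f ≫ p = p) (U : Y.Opens) :
    Γ(X, p ⁻¹ᵁ U) ⟶ Γ(X, p ⁻¹ᵁ U) :=
  f.appLE (p ⁻¹ᵁ U) (p ⁻¹ᵁ U) (by rw [← Scheme.Hom.comp_preimage, hf])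

variable (p : X ⟶ Y) {f : X ⟶ X} (hf : f ≫ p = p)

theorem app_pull (U : Y.Opens) : p.app U ≫ pull p f hf U = p.app U := by
  unfold pull
  rw [p.app_eq_appLE, Scheme.Hom.appLE_comp_appLE]
  have key : ∀ (q : X ⟶ Y) (_ : q = p) (e : p ⁻¹ᵁ U ≤ q ⁻¹ᵁ U),
      q.appLE U (p ⁻¹ᵁ U) e = p.appLE U (p ⁻¹ᵁ U) le_rfl := by
    intro q hq e; subst hq; rfl
  exact key _ hf _

theorem app_pull_apply (U : Y.Opens) (t : Γ(Y, U)) :
    (pull p f hf U).hom ((p.app U).hom t) = (p.app U).hom t := by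
  rw [← CommRingCat.comp_apply, app_pull]

theorem pull_res {U V : Y.Opens} (i : V ≤ U) :
    X.presheaf.map (homOfLE (p.preimage_mono i)).op ≫ pull p f hf V =
      pull p f hf U ≫ X.presheaf.map (homOfLE (p.preimage_mono i)).op := by
  unfold pull
  rw [Scheme.Hom.map_appLE, Scheme.Hom.appLE_map]

theorem pull_res_apply {U V : Y.Opens} (i : V ≤ U) (s : Γ(X, p ⁻¹ᵁ U)) :
    (pull p f hf V).hom ((X.presheaf.map (homOfLE (p.preimage_mono i)).op).hom s) =
      (X.presheaf.map (homOfLE (p.preimage_mono i)).op).hom ((pull p f hf U).hom s) := by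
  rw [← CommRingCat.comp_apply, pull_res p hf i, CommRingCat.comp_apply]

theorem pull_congr {f g : X ⟶ X} (hf : f ≫ p = p) (hg : g ≫ p = p) (h : f = g) (U : Y.Opens) :
    pull p f hf U = pull p g hg U := by subst h; rfl

theorem pull_id (U : Y.Opens) : pull p (𝟙 X) (Category.id_comp p) U = 𝟙 _ := by
  simp [pull, Scheme.Hom.appLE]
  exact X.presheaf.map_id _

theorem pull_comp {f g : X ⟶ X} (hf : f ≫ p = p) (hg : g ≫ p = p) (U : Y.Opens) :
    pull p (f ≫ g) (by rw [Category.assoc, hg, hf]) U = pull p g hg U ≫ pull p f hf U := by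
  unfold pull; rw [Scheme.Hom.appLE_comp_appLE]

theorem app_res_apply {U V : Y.Opens} (i : V ≤ U) (t : Γ(Y, U)) :
    (p.app V).hom ((Y.presheaf.map (homOfLE i).op).hom t) =
      (X.presheaf.map (homOfLE (p.preimage_mono i)).op).hom ((p.app U).hom t) := by
  rw [← CommRingCat.comp_apply, ← CommRingCat.comp_apply, p.naturality]
  rfl

/-- Injectivity on sections is local. -/
theorem inj_of_basis {B : Set Y.Opens} (hB : Opens.IsBasis B)
    (h : ∀ V ∈ B, Function.Injective (p.app V).hom) (U : Y.Opens) :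
    Function.Injective (p.app U).hom := by
  intro s t hst
  refine Y.sheaf.eq_of_locally_eq' (fun i : {V : Y.Opens // V ∈ B ∧ V ≤ U} => i.1) U
    (fun i => homOfLE i.2.2) ?_ s t ?_
  · intro x hx
    obtain ⟨V, hVB, hxV, hVU⟩ := Opens.isBasis_iff_nbhd.mp hB hx
    exact Opens.mem_iSup.mpr ⟨⟨V, hVB, hVU⟩, hxV⟩
  · rintro ⟨V, hVB, hVU⟩
    apply h V hVB
    change (p.app V).hom ((Y.presheaf.map (homOfLE hVU).op).hom s) =
      (p.app V).hom ((Y.presheaf.map (homOfLE hVU).op).hom t)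
    rw [app_res_apply, app_res_apply, hst]

variable {G : Type u} [Group G] (ρ : G →* Aut X)

/-- Quotient criterion on a basis. -/
theorem isQuot_of_basis (haff : IsAffineHom p) (hinv : ∀ g : G, (ρ g).hom ≫ p = p)
    {B : Set Y.Opens} (hB : Opens.IsBasis B) (h : ∀ V ∈ B, Function.Injective (p.app V).hom)
    (hr : ∀ V ∈ B, ∀ s : Γ(X, p ⁻¹ᵁ V), (∀ g : G, (pull p (ρ g).hom (hinv g) V).hom s = s) →
      s ∈ Set.range (p.app V).hom) : SGA1.IsQuot ρ p := by
  refine ⟨haff, hinv, inj_of_basis p hB h, fun U s => ⟨?_, fun hs => ?_⟩⟩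
  · rintro ⟨t, rfl⟩ g
    exact app_pull_apply p (hinv g) U t
  let ι := {V : Y.Opens // V ∈ B ∧ V ≤ U}
  have hcov : U ≤ iSup (fun i : ι => i.1) := by
    intro x hx
    obtain ⟨V, hVB, hxV, hVU⟩ := Opens.isBasis_iff_nbhd.mp hB hx
    exact Opens.mem_iSup.mpr ⟨⟨V, hVB, hVU⟩, hxV⟩
  have hex : ∀ i : ι, ∃ t : Γ(Y, i.1), (p.app i.1).hom t =
      (X.presheaf.map (homOfLE (p.preimage_mono i.2.2)).op).hom s := by
    intro i
    refine hr i.1 i.2.1 _ fun g => ?_
    rw [pull_res_apply p (hinv g) i.2.2 s]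
    exact congrArg _ (hs g)
  choose t ht using hex
  have hcompat : TopCat.Presheaf.IsCompatible Y.sheaf.1 (fun i : ι => i.1) t := by
    intro i j
    apply inj_of_basis p hB h (i.1 ⊓ j.1)
    change (p.app (i.1 ⊓ j.1)).hom ((Y.presheaf.map (homOfLE inf_le_left).op).hom (t i)) =
      (p.app (i.1 ⊓ j.1)).hom ((Y.presheaf.map (homOfLE inf_le_right).op).hom (t j))
    rw [app_res_apply, app_res_apply, ht, ht, ← CommRingCat.comp_apply, ← CommRingCat.comp_apply,
      ← Functor.map_comp, ← Functor.map_comp]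
    rfl
  obtain ⟨t₀, ht₀, -⟩ := Y.sheaf.existsUnique_gluing' (fun i : ι => i.1) U
    (fun i => homOfLE i.2.2) hcov t hcompat
  refine ⟨t₀, X.sheaf.eq_of_locally_eq' (fun i : ι => p ⁻¹ᵁ i.1) (p ⁻¹ᵁ U)
    (fun i => homOfLE (p.preimage_mono i.2.2)) ?_ _ _ fun i => ?_⟩
  · rw [← Scheme.Hom.preimage_iSup]
    exact p.preimage_mono hcov
  · change (X.presheaf.map (homOfLE (p.preimage_mono i.2.2)).op).hom ((p.app U).hom t₀) =
      (X.presheaf.map (homOfLE (p.preimage_mono i.2.2)).op).hom s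
    rw [← app_res_apply p i.2.2, ← ht i]
    exact congrArg _ (ht₀ i)

/-- The quotient conditions on an affine open pass to its basic opens. -/
theorem cond_basicOpen (haff : IsAffineHom p) [Finite G] (hinv : ∀ g : G, (ρ g).hom ≫ p = p)
    {U : Y.Opens} (hU : IsAffineOpen U) (h : Function.Injective (p.app U).hom)
    (hr : ∀ s : Γ(X, p ⁻¹ᵁ U), (∀ g : G, (pull p (ρ g).hom (hinv g) U).hom s = s) →
      s ∈ Set.range (p.app U).hom) (r : Γ(Y, U)) :
    Function.Injective (p.app (Y.basicOpen r)).hom ∧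
    ∀ s : Γ(X, p ⁻¹ᵁ Y.basicOpen r),
      (∀ g : G, (pull p (ρ g).hom (hinv g) (Y.basicOpen r)).hom s = s) →
      s ∈ Set.range (p.app (Y.basicOpen r)).hom := by
  have hle : Y.basicOpen r ≤ U := Y.basicOpen_le r
  have hpU : IsAffineOpen (p ⁻¹ᵁ U) := hU.preimage p
  have hY := hU.isLocalization_of_eq_basicOpen r (homOfLE hle) rfl
  have hX := hpU.isLocalization_of_eq_basicOpen ((p.app U).hom r) (homOfLE (p.preimage_mono hle))
    (p.preimage_basicOpen r)
  let algY : Algebra Γ(Y, U) Γ(Y, Y.basicOpen r) :=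
    (Y.presheaf.map (homOfLE hle).op).hom.toAlgebra
  let algX : Algebra Γ(X, p ⁻¹ᵁ U) Γ(X, p ⁻¹ᵁ Y.basicOpen r) :=
    (X.presheaf.map (homOfLE (p.preimage_mono hle)).op).hom.toAlgebra
  have : IsLocalization.Away r Γ(Y, Y.basicOpen r) := hY
  have : IsLocalization.Away ((p.app U).hom r) Γ(X, p ⁻¹ᵁ Y.basicOpen r) := hX
  have nat : ∀ a, (p.app (Y.basicOpen r)).hom (algebraMap Γ(Y, U) Γ(Y, Y.basicOpen r) a) =
      algebraMap Γ(X, p ⁻¹ᵁ U) Γ(X, p ⁻¹ᵁ Y.basicOpen r) ((p.app U).hom a) :=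
    fun a => app_res_apply p hle a
  have natg : ∀ g a, (pull p (ρ g).hom (hinv g) (Y.basicOpen r)).hom
      (algebraMap Γ(X, p ⁻¹ᵁ U) Γ(X, p ⁻¹ᵁ Y.basicOpen r) a) =
        algebraMap Γ(X, p ⁻¹ᵁ U) Γ(X, p ⁻¹ᵁ Y.basicOpen r)
          ((pull p (ρ g).hom (hinv g) U).hom a) :=
    fun g a => pull_res_apply p (hinv g) hle a
  constructor
  · rw [injective_iff_map_eq_zero]
    intro x hx
    obtain ⟨a, ⟨_, n, rfl⟩, rfl⟩ := IsLocalization.exists_mk'_eq (Submonoid.powers r) x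
    have h1 := IsLocalization.mk'_spec Γ(Y, Y.basicOpen r) a (⟨r ^ n, n, rfl⟩ : Submonoid.powers r)
    apply_fun (p.app (Y.basicOpen r)).hom at h1
    rw [map_mul, hx, zero_mul, nat] at h1
    obtain ⟨⟨_, k, rfl⟩, hk⟩ :=
      (IsLocalization.map_eq_zero_iff (Submonoid.powers ((p.app U).hom r)) _ _).mp h1.symm
    have : (p.app U).hom (r ^ k * a) = (p.app U).hom 0 := by
      rw [map_zero, map_mul, map_pow]; exact hk
    exact (IsLocalization.mk'_eq_zero_iff _ _).mpr ⟨⟨r ^ k, k, rfl⟩, h this⟩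
  · intro s hs
    obtain ⟨a, ⟨_, n, rfl⟩, rfl⟩ :=
      IsLocalization.exists_mk'_eq (Submonoid.powers ((p.app U).hom r)) s
    have h1 := IsLocalization.mk'_spec Γ(X, p ⁻¹ᵁ Y.basicOpen r) a
      (⟨(p.app U).hom r ^ n, n, rfl⟩ : Submonoid.powers ((p.app U).hom r))
    have hfix : ∀ g, ∃ k : ℕ, (p.app U).hom r ^ k * (pull p (ρ g).hom (hinv g) U).hom a =
        (p.app U).hom r ^ k * a := by
      intro g
      have h2 := congrArg (pull p (ρ g).hom (hinv g) (Y.basicOpen r)).hom h1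
      rw [map_mul, hs g, natg, natg, map_pow, app_pull_apply] at h2
      obtain ⟨⟨_, k, rfl⟩, hk⟩ :=
        (IsLocalization.eq_iff_exists (Submonoid.powers ((p.app U).hom r)) _).mp (h2.symm.trans h1)
      exact ⟨k, hk⟩
    choose k hk using hfix
    cases nonempty_fintype G
    let K := Finset.univ.sup k
    have hinvK : ∀ g, (pull p (ρ g).hom (hinv g) U).hom ((p.app U).hom r ^ K * a) =
        (p.app U).hom r ^ K * a := by
      intro g
      rw [map_mul, map_pow, app_pull_apply]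
      obtain ⟨m, hm⟩ := Nat.exists_eq_add_of_le (Finset.le_sup (f := k) (Finset.mem_univ g))
      rw [show K = k g + m from hm, add_comm, pow_add, mul_assoc, mul_assoc, hk]
    obtain ⟨b, hb⟩ := hr _ hinvK
    refine ⟨IsLocalization.mk' _ b (⟨r ^ (K + n), K + n, rfl⟩ : Submonoid.powers r), ?_⟩
    rw [IsLocalization.eq_mk'_iff_mul_eq]
    have h3 := congrArg (p.app (Y.basicOpen r)).hom (IsLocalization.mk'_spec Γ(Y, Y.basicOpen r) b
      (⟨r ^ (K + n), K + n, rfl⟩ : Submonoid.powers r))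
    simp only [map_mul, nat, hb, map_pow, pow_add] at h3
    simp only [map_pow]
    refine ((IsLocalization.map_units Γ(X, p ⁻¹ᵁ Y.basicOpen r)
      (⟨_, 1, pow_one _⟩ : Submonoid.powers ((p.app U).hom r))).pow K).mul_left_cancel ?_
    refine Eq.trans ?_ h3
    ring_nf

/-- Quotient criterion on an affine cover. -/
theorem isQuot_of_affine_cover (haff : IsAffineHom p) [Finite G]
    (hinv : ∀ g : G, (ρ g).hom ≫ p = p) {ι : Type*} (U : ι → Y.Opens)
    (hU : ∀ i, IsAffineOpen (U i)) (hcov : ∀ y : Y, ∃ i, y ∈ U i)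
    (h : ∀ i, Function.Injective (p.app (U i)).hom)
    (hr : ∀ i, ∀ s : Γ(X, p ⁻¹ᵁ U i), (∀ g : G, (pull p (ρ g).hom (hinv g) (U i)).hom s = s) →
      s ∈ Set.range (p.app (U i)).hom) : SGA1.IsQuot ρ p := by
  refine isQuot_of_basis p ρ haff hinv (B := {V | ∃ i r, V = Y.basicOpen (U := U i) r}) ?_ ?_ ?_
  · rw [Opens.isBasis_iff_nbhd]
    intro W y hy
    obtain ⟨i, hi⟩ := hcov y
    obtain ⟨r, hr1, hr2⟩ := (hU i).exists_basicOpen_le ⟨y, hy⟩ hi
    exact ⟨_, ⟨i, r, rfl⟩, hr2, hr1⟩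
  · rintro _ ⟨i, r, rfl⟩
    exact (cond_basicOpen p ρ haff hinv (hU i) (h i) (hr i) r).1
  · rintro _ ⟨i, r, rfl⟩
    exact (cond_basicOpen p ρ haff hinv (hU i) (h i) (hr i) r).2

end Quot84
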