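import Groth.Agent.Quot84.FreeScheme

/-! # Etale quotients of connected schemes -/

set_option autoImplicit false
universe u
open CategoryTheory CategoryTheory.Limits AlgebraicGeometry TopologicalSpace Opposite

namespace Quot84

variable {X Y : Scheme.{u}} {G : Type u} [Group G] [Finite G] {ρ : G →* Aut X} {p : X ⟶ Y}

theorem eq_id_of_connected (p : X ⟶ Y) [Etale p] [IsSeparated p] [ConnectedSpace X] (f : X ⟶ X)
    (hf : f ≫ p = p) {T : Scheme.{u}} [Nonempty T] (ξ : T ⟶ X) (hξ : ξ ≫ f = ξ) : f = 𝟙 X := by
  let t : X ⟶ pullback p p := pullback.lift (𝟙 X) f (by rw [hf, Category.id_comp])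
  have ho : IsOpen (Set.range (pullback.diagonal p)) :=
    (pullback.diagonal p).isOpenEmbedding.isOpen_range
  have hc : IsClosed (Set.range (pullback.diagonal p)) :=
    (pullback.diagonal p).isClosedEmbedding.isClosed_range
  have htξ : ξ ≫ t = ξ ≫ pullback.diagonal p := by
    apply pullback.hom_ext <;> simp only [t, hξ, Category.assoc, pullback.lift_fst, pullback.lift_snd, pullback.diagonal_fst, pullback.diagonal_snd,
      Category.comp_id, Category.id_comp]
  obtain ⟨z⟩ := ‹Nonempty T›
  have huniv := IsClopen.eq_univ ⟨hc.preimage t.continuous, ho.preimage t.continuous⟩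
    ⟨ξ z, show t (ξ z) ∈ Set.range (pullback.diagonal p) from
      ⟨ξ z, by rw [← Scheme.Hom.comp_apply, ← Scheme.Hom.comp_apply, htξ]⟩⟩
  have hr : Set.range t ⊆ Set.range (pullback.diagonal p) := by
    rintro _ ⟨x, rfl⟩
    exact huniv.ge (Set.mem_univ x)
  let a := IsOpenImmersion.lift (pullback.diagonal p) t hr
  have ha : a ≫ pullback.diagonal p = t := IsOpenImmersion.lift_fac _ _ hr
  have h1 : a = 𝟙 X := by
    have := congrArg (· ≫ pullback.fst p p) ha
    simpa only [t, Category.assoc, pullback.lift_fst, pullback.lift_snd, pullback.diagonal_fst, pullback.diagonal_snd,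
      Category.comp_id, Category.id_comp] using this
  have := congrArg (· ≫ pullback.snd p p) ha
  simpa only [t, h1, Category.assoc, pullback.lift_fst, pullback.lift_snd, pullback.diagonal_fst, pullback.diagonal_snd,
      Category.comp_id, Category.id_comp] using this.symm

theorem isFree_of_connected (hp : SGA1.IsQuot ρ p) [Etale p] [ConnectedSpace X]
    (hfaith : Function.Injective ρ) : IsFree ρ := by
  intro K _ _ ξ g h
  have := hp.affine
  refine hfaith (Iso.ext ?_)
  rw [hom_one]
  exact eq_id_of_connected p (ρ g).hom (hp.inv g) ξ h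

theorem exists_eq_of_connected (hp : SGA1.IsQuot ρ p) [ConnectedSpace X] (hfree : IsFree ρ)
    (f : X ⟶ X) (hf : f ≫ p = p) : ∃ g : G, (ρ g).hom = f := by
  classical
  have hiso := isIso_torsor hp hfree
  let υ := Sigma.desc (fun g : G => pullback.lift (𝟙 X) (ρ g).hom
    ((Category.id_comp p).trans (hp.inv g).symm))
  let t : X ⟶ pullback p p := pullback.lift (𝟙 X) f (by rw [hf, Category.id_comp])
  let b := t ≫ inv υ
  obtain ⟨x₀⟩ := ‹ConnectedSpace X›.toNonempty
  let ι := fun g : G => Sigma.ι (fun _ : G => X) g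
  obtain ⟨g, hg⟩ : ∃ g, b x₀ ∈ Set.range (ι g) := by
    obtain ⟨g, y, hy⟩ := (sigmaOpenCover (fun _ : G => X)).exists_eq (b x₀)
    exact ⟨g, y, hy⟩
  have hclosed : IsClosed (Set.range (ι g)) := by
    have hcompl : (Set.range (ι g))ᶜ = ⋃ h ∈ ({g}ᶜ : Set G), Set.range (ι h) := by
      ext z
      constructor
      · intro hz
        obtain ⟨h, y, hy⟩ := (sigmaOpenCover (fun _ : G => X)).exists_eq z
        refine Set.mem_biUnion (x := h) (fun e => hz ?_) ⟨y, hy⟩
        rw [Set.mem_singleton_iff] at e
        subst e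
        exact ⟨y, hy⟩
      · intro hz
        simp only [Set.mem_iUnion] at hz
        obtain ⟨h, hh, hz⟩ := hz
        exact fun hz' => Set.disjoint_left.mp (Set.disjoint_iff_inter_eq_empty.mpr
          (Set.eq_empty_of_forall_notMem fun w hw => by
            have := disjoint_opensRange_sigmaι (fun _ : G => X) g h (Ne.symm hh)
            exact Set.disjoint_left.mp (by
              rw [← Opens.coe_disjoint] at this; exact this) hw.1 hw.2)) hz' hz
    rw [← isOpen_compl_iff, hcompl]
    exact isOpen_biUnion fun h _ => (ι h).isOpenEmbedding.isOpen_range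
  have huniv := IsClopen.eq_univ ⟨hclosed.preimage b.continuous,
    (ι g).isOpenEmbedding.isOpen_range.preimage b.continuous⟩ ⟨x₀, hg⟩
  have hr : Set.range b ⊆ Set.range (ι g) := by
    rintro _ ⟨x, rfl⟩
    exact huniv.ge (Set.mem_univ x)
  let a := IsOpenImmersion.lift (ι g) b hr
  have ht : a ≫ pullback.lift (𝟙 X) (ρ g).hom ((Category.id_comp p).trans (hp.inv g).symm) = t := by
    have h := congrArg (· ≫ υ) (IsOpenImmersion.lift_fac (ι g) b hr)
    simp only [Category.assoc, b, IsIso.inv_hom_id, Category.comp_id, ι, υ, Sigma.ι_desc] at h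
    exact h
  have h1 : a = 𝟙 X := by
    have := congrArg (· ≫ pullback.fst p p) ht
    simpa only [t, Category.assoc, pullback.lift_fst, pullback.lift_snd, pullback.diagonal_fst, pullback.diagonal_snd,
      Category.comp_id, Category.id_comp] using this
  refine ⟨g, ?_⟩
  have := congrArg (· ≫ pullback.snd p p) ht
  simpa only [t, h1, Category.assoc, pullback.lift_fst, pullback.lift_snd, pullback.diagonal_fst, pullback.diagonal_snd,
      Category.comp_id, Category.id_comp] using this

theorem existsUnique_eq_of_connected (hp : SGA1.IsQuot ρ p) [Etale p] [ConnectedSpace X]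
    (hfaith : Function.Injective ρ) (u : Aut X) (hu : u.hom ≫ p = p) : ∃! g : G, ρ g = u := by
  obtain ⟨g, hg⟩ := exists_eq_of_connected hp (isFree_of_connected hp hfaith) u.hom hu
  exact ⟨g, Iso.ext hg, fun g' hg' => hfaith (hg'.trans (Iso.ext hg).symm)⟩

end Quot84
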