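import Groth.Agent.Quot84.Props

/-! # Restriction of quotients, categorical quotient property -/

set_option autoImplicit false
universe u
open CategoryTheory AlgebraicGeometry TopologicalSpace Opposite

namespace Quot84

variable {X Y : Scheme.{u}} {G : Type u} [Group G] {ρ : G →* Aut X} {p : X ⟶ Y}

theorem map_self_apply {V : X.Opens} (i : op V ⟶ op V) (s : Γ(X, V)) :
    (X.presheaf.map i).hom s = s := by
  rw [Subsingleton.elim i (𝟙 _), CategoryTheory.Functor.map_id]; rfl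

theorem eq_of_comp_eq [Finite G] (hp : SGA1.IsQuot ρ p) {Z : Scheme.{u}} {a b : Y ⟶ Z}
    (h : p ≫ a = p ≫ b) : a = b := by
  have hb : a.base = b.base := by
    ext y
    obtain ⟨x, rfl⟩ := surjective hp y
    rw [← Scheme.Hom.comp_apply, ← Scheme.Hom.comp_apply, h]
  refine Scheme.Hom.ext hb fun U => ?_
  ext s
  apply hp.injective (b ⁻¹ᵁ U)
  have h1 := congrArg (fun f => f.hom s) (Scheme.Hom.congr_app h U)
  simp only [Scheme.Hom.comp_app, CommRingCat.comp_apply] at h1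
  have h2 : ∀ (V : Y.Opens) (e : V = a ⁻¹ᵁ U) (t : Γ(Y, a ⁻¹ᵁ U)),
      (p.app V).hom ((Y.presheaf.map (eqToHom e).op).hom t) =
        (X.presheaf.map (eqToHom (by rw [e])).op).hom ((p.app (a ⁻¹ᵁ U)).hom t) := by
    rintro V rfl t; simp
  refine (h2 _ _ ((a.app U).hom s)).trans ?_
  refine (congrArg (X.presheaf.map _).hom h1).trans ?_
  rw [← CommRingCat.comp_apply, ← Functor.map_comp]
  exact map_self_apply _ _

theorem exists_desc [Finite G] (hp : SGA1.IsQuot ρ p) {Z : Scheme.{u}} (h : X ⟶ Z)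
    (hh : ∀ g : G, (ρ g).hom ≫ h = h) : ∃ k : Y ⟶ Z, p ≫ k = h := by
  have hs := surjective hp
  have hfib : ∀ x x', p x = p x' → h x = h x' := by
    intro x x' e
    obtain ⟨g, rfl⟩ := exists_of_base_eq hp e
    rw [← Scheme.Hom.comp_apply, hh g]
  let b₀ : Y → Z := fun y => h (Function.surjInv hs y)
  have hb₀ : ∀ x, b₀ (p x) = h x := fun x => hfib _ _ (Function.surjInv_eq hs (p x))
  let b : Y.toTopCat ⟶ Z.toTopCat := TopCat.ofHom ⟨b₀, (isQuotientMap hp).continuous_iff.mpr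
    (by rw [show b₀ ∘ p = (h : X → Z) from funext hb₀]; exact h.continuous)⟩
  have hpre : ∀ U : Z.Opens, p ⁻¹ᵁ ((Opens.map b).obj U) = h ⁻¹ᵁ U := by
    intro U
    ext x
    change b₀ (p x) ∈ U ↔ h x ∈ U
    rw [hb₀]
  let hm : ∀ U : Z.Opens, Γ(Z, U) ⟶ Γ(X, p ⁻¹ᵁ ((Opens.map b).obj U)) :=
    fun U => h.appLE U _ (hpre U).le
  have hmem : ∀ (U : Z.Opens) (s : Γ(Z, U)),
      (hm U).hom s ∈ Set.range (p.app ((Opens.map b).obj U)).hom := by
    intro U s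
    refine (hp.range_iff _ _).mpr fun g => ?_
    change (h.appLE U _ _ ≫ (ρ g).hom.appLE _ _ _).hom s = _
    rw [Scheme.Hom.appLE_comp_appLE]
    have key : ∀ (q : X ⟶ Z) (_ : q = h) (e : p ⁻¹ᵁ ((Opens.map b).obj U) ≤ q ⁻¹ᵁ U),
        q.appLE U _ e = h.appLE U _ (hpre U).le := by rintro q rfl e; rfl
    rw [key _ (hh g) _]
  choose φ hφ using hmem
  have hinj := hp.injective
  let Φ : ∀ U : Z.Opens, Γ(Z, U) ⟶ Γ(Y, (Opens.map b).obj U) := fun U => CommRingCat.ofHom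
    { toFun := φ U
      map_one' := hinj _ (by rw [hφ, map_one, map_one])
      map_mul' := fun s t => hinj _ (by rw [hφ, map_mul, map_mul, hφ, hφ])
      map_zero' := hinj _ (by rw [hφ, map_zero, map_zero])
      map_add' := fun s t => hinj _ (by rw [hφ, map_add, map_add, hφ, hφ]) }
  have hΦ : ∀ U, Φ U ≫ p.app ((Opens.map b).obj U) = hm U := fun U => by ext s; exact hφ U s
  let k₀ : Y.toPresheafedSpace ⟶ Z.toPresheafedSpace :=
    { base := b
      c :=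
      { app := fun U => Φ U.unop
        naturality := fun U V i => by
          ext s
          apply hinj _
          have h1 := congrArg (fun f => f.hom s)
            (show (Z.presheaf.map i ≫ Φ V.unop) ≫ p.app ((Opens.map b).obj V.unop) =
              (Φ U.unop ≫ Y.presheaf.map ((Opens.map b).map i.unop).op) ≫
                p.app ((Opens.map b).obj V.unop) by
              rw [Category.assoc, hΦ, Category.assoc, p.naturality, ← Category.assoc, hΦ]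
              simp only [hm, Scheme.Hom.appLE_map, Scheme.Hom.map_appLE])
          exact h1 } }
  have hloc : ∀ y : Y, IsLocalHom (k₀.stalkMap y).hom := by
    intro y
    obtain ⟨x, rfl⟩ := hs y
    refine ⟨fun a ha => ?_⟩
    obtain ⟨U, hU, s, rfl⟩ := Z.presheaf.exists_germ_eq a
    erw [PresheafedSpace.stalkMap_germ_apply] at ha
    have hy : p x ∈ Y.basicOpen ((Φ U).hom s) :=
      (Y.mem_basicOpen ((Φ U).hom s) (p x) hU).mpr ha
    have hy2 : x ∈ p ⁻¹ᵁ Y.basicOpen ((Φ U).hom s) := hy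
    rw [Scheme.preimage_basicOpen, ← CommRingCat.comp_apply, hΦ, Scheme.basicOpen_appLE] at hy2
    have hz : b₀ (p x) ∈ Z.basicOpen s := by rw [hb₀]; exact hy2.2
    exact (Z.mem_basicOpen s (b₀ (p x)) hU).mp hz
  let k : Y ⟶ Z := ⟨⟨k₀, hloc⟩⟩
  refine ⟨k, ?_⟩
  have hkb : (p ≫ k).base = h.base := by ext x; exact hb₀ x
  refine Scheme.Hom.ext hkb fun U => ?_
  refine (congrArg (fun m => m ≫ X.presheaf.map
    (eqToHom congr((Opens.map $hkb.symm).obj U)).op) (hΦ U)).trans ?_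
  exact (Scheme.Hom.appLE_map _ _ _).trans (Scheme.Hom.appLE_eq_app h)

theorem existsUnique_desc [Finite G] (hp : SGA1.IsQuot ρ p) {Z : Scheme.{u}} (h : X ⟶ Z)
    (hh : ∀ g : G, (ρ g).hom ≫ h = h) : ∃! k : Y ⟶ Z, p ≫ k = h := by
  obtain ⟨k, hk⟩ := exists_desc hp h hh
  exact ⟨k, hk, fun k' hk' => eq_of_comp_eq hp (hk'.trans hk.symm)⟩

theorem restrict (hp : SGA1.IsQuot ρ p) (U : Y.Opens)
    (ρU : G →* Aut (p ⁻¹ᵁ U).toScheme)
    (hρU : ∀ g : G, (ρU g).hom ≫ (p ⁻¹ᵁ U).ι = (p ⁻¹ᵁ U).ι ≫ (ρ g).hom) :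
    SGA1.IsQuot ρU (p ∣_ U) := by
  have hinv : ∀ g, (ρU g).hom ≫ (p ∣_ U) = p ∣_ U := fun g => by
    rw [← cancel_mono U.ι, Category.assoc, morphismRestrict_ι, ← Category.assoc, hρU,
      Category.assoc, hp.inv g]
  have := hp.affine
  have key : ∀ (g : G) (W : (p ⁻¹ᵁ U).toScheme.Opens) (e : W ≤ (ρU g).hom ⁻¹ᵁ W)
      (e' : (p ⁻¹ᵁ U).ι ''ᵁ W ≤ (ρ g).hom ⁻¹ᵁ ((p ⁻¹ᵁ U).ι ''ᵁ W)),
      (ρU g).hom.appLE W W e = (ρ g).hom.appLE _ _ e' := by
    intro g W e e'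
    have h1 := Scheme.Hom.appLE_comp_appLE (ρU g).hom (p ⁻¹ᵁ U).ι ((p ⁻¹ᵁ U).ι ''ᵁ W) W W
      (by rw [Scheme.Hom.preimage_image_eq]) e
    have h2 := Scheme.Hom.appLE_comp_appLE (p ⁻¹ᵁ U).ι (ρ g).hom ((p ⁻¹ᵁ U).ι ''ᵁ W)
      ((p ⁻¹ᵁ U).ι ''ᵁ W) W e' (by rw [Scheme.Hom.preimage_image_eq])
    have h3 : ∀ (a c : (p ⁻¹ᵁ U).toScheme ⟶ X) (_ : a = c) (V : X.Opens)
        (ea : W ≤ a ⁻¹ᵁ V) (ec : W ≤ c ⁻¹ᵁ V), a.appLE V W ea = c.appLE V W ec := by
      rintro a _ rfl V ea ec; rfl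
    have h4 := h1.trans ((h3 _ _ (hρU g) _ _ _).trans h2.symm)
    rw [Scheme.Opens.ι_appLE] at h4
    have hid : ∀ (i : (p ⁻¹ᵁ U).ι ''ᵁ W ⟶ (p ⁻¹ᵁ U).ι ''ᵁ W), X.presheaf.map i.op = 𝟙 _ := by
      intro i; rw [Subsingleton.elim i (𝟙 _), op_id]; exact X.presheaf.map_id _
    rw [hid] at h4
    ext s
    exact congrArg (fun f => f.hom s) h4
  refine ⟨IsZariskiLocalAtTarget.restrict hp.affine U, hinv, fun W => ?_, fun W s => ?_⟩
  · rw [morphismRestrict_app]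
    exact ((X.presheaf.mapIso (eqToIso (image_morphismRestrict_preimage p U W)).op
      ).commRingCatIsoToRingEquiv.injective).comp (hp.injective _)
  · have e := image_morphismRestrict_preimage p U W
    let r : Γ(X, p ⁻¹ᵁ (U.ι ''ᵁ W)) ≅ Γ(X, (p ⁻¹ᵁ U).ι ''ᵁ ((p ∣_ U) ⁻¹ᵁ W)) :=
      X.presheaf.mapIso (eqToIso e).op
    obtain ⟨t, rfl⟩ := r.commRingCatIsoToRingEquiv.surjective s
    have hW : (p ∣_ U).app W = p.app (U.ι ''ᵁ W) ≫ r.hom := morphismRestrict_app p U W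
    have hrg : ∀ g, (ρU g).hom.appLE _ _ (SGA1.preimage_le_of_inv ρU (p ∣_ U) hinv g W) =
        r.inv ≫ (ρ g).hom.appLE _ _ (SGA1.preimage_le_of_inv ρ p hp.inv g (U.ι ''ᵁ W)) ≫ r.hom := by
      intro g
      refine (key g _ _ (by rw [e]; exact SGA1.preimage_le_of_inv ρ p hp.inv g (U.ι ''ᵁ W))).trans ?_
      simp [r, Scheme.Hom.map_appLE, Scheme.Hom.appLE_map]
    change r.hom.hom t ∈ Set.range ((p ∣_ U).app W).hom ↔
      ∀ g, ((ρU g).hom.appLE _ _ _).hom (r.hom.hom t) = r.hom.hom t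
    have hri : ∀ a, r.inv.hom (r.hom.hom a) = a := fun a => by
      rw [← CommRingCat.comp_apply, r.hom_inv_id]; rfl
    have hrg' : ∀ g a, ((ρU g).hom.appLE _ _
        (SGA1.preimage_le_of_inv ρU (p ∣_ U) hinv g W)).hom (r.hom.hom a) =
        r.hom.hom (((ρ g).hom.appLE _ _
          (SGA1.preimage_le_of_inv ρ p hp.inv g (U.ι ''ᵁ W))).hom a) := fun g a =>
      (congrArg (fun m => m.hom (r.hom.hom a)) (hrg g)).trans
        (congrArg (fun c => r.hom.hom (((ρ g).hom.appLE _ _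
          (SGA1.preimage_le_of_inv ρ p hp.inv g (U.ι ''ᵁ W))).hom c)) (hri a))
    rw [hW]
    constructor
    · rintro ⟨a, ha⟩ g
      refine (hrg' g t).trans ?_
      rw [(hp.range_iff _ t).mp ⟨a, r.commRingCatIsoToRingEquiv.injective ha⟩ g]
    · intro h
      obtain ⟨a, ha⟩ := (hp.range_iff _ t).mpr fun g => by
        have h1 := h g
        exact r.commRingCatIsoToRingEquiv.injective ((hrg' g t).symm.trans h1)
      exact ⟨a, congrArg r.hom.hom ha⟩

end Quot84
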