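import Groth.Agent.Quot84.Transport

/-! # Existence of quotients by finite groups -/

set_option autoImplicit false
universe u
open CategoryTheory CategoryTheory.Limits AlgebraicGeometry TopologicalSpace Opposite

namespace Quot84

variable {X Y : Scheme.{u}} {G : Type u} [Group G] [Finite G] {ρ : G →* Aut X}

theorem exists_quot_of_isAffine [IsAffine X] (ρ : G →* Aut X) :
    ∃ (Y : Scheme.{u}) (p : X ⟶ Y), SGA1.IsQuot ρ p := by
  let t := terminal.from X
  have hinv : ∀ g : G, (ρ g).hom ≫ t = t := fun g => Subsingleton.elim _ _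
  let : MulSemiringAction G Γ(X, ⊤) := act hinv ⊤
  let B := CommRingCat.of (FixedPoints.subring Γ(X, ⊤) G)
  let φ : B ⟶ Γ(X, ⊤) := CommRingCat.ofHom (FixedPoints.subring Γ(X, ⊤) G).subtype
  let ρ' : G →* Aut (Spec Γ(X, ⊤)) := (X.isoSpec.conjAut.toMonoidHom).comp ρ
  have hρ' : ∀ g, (ρ' g).hom = Spec.map (ρ g).hom.appTop := fun g => by
    change X.isoSpec.inv ≫ (ρ g).hom ≫ X.isoSpec.hom = _
    rw [Iso.inv_comp_eq, Scheme.isoSpec_hom_naturality]
  have hsmul : ∀ (g : G) a, g⁻¹ • a = (ρ g).hom.appTop.hom a := fun g a => by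
    change (pull t (ρ g⁻¹⁻¹).hom (hinv _) ⊤).hom a = _
    rw [pull_congr t (hinv g⁻¹⁻¹) (hinv g) (by rw [inv_inv]) ⊤]
    exact congrArg (fun m : Γ(X, ⊤) ⟶ Γ(X, ⊤) => m.hom a) (Scheme.Hom.appLE_eq_app (ρ g).hom)
  have hq : SGA1.IsQuot ρ' (Spec.map φ) := by
    refine isQuot_Spec φ ρ' (fun g => (ρ g).hom.appTop) (fun g => ?_) Subtype.val_injective
      (fun a ha => ⟨⟨a, fun g => ?_⟩, rfl⟩) (congrArg Set.range (funext hρ'))
    · ext b
      exact (hsmul g b.1).symm.trans (b.2 g⁻¹)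
    · have := ha g⁻¹
      rwa [← hsmul, inv_inv] at this
  exact ⟨Spec B, _, of_iso hq ρ X.isoSpec (Iso.refl _) fun g => by
    rw [hρ', Scheme.isoSpec_hom_naturality]⟩

theorem exists_stable_affine (ρ : G →* Aut X) {U : X.Opens} (hU : IsAffineOpen U) (x : X)
    (hx : ∀ g : G, (ρ g).hom x ∈ U) :
    ∃ V : X.Opens, IsAffineOpen V ∧ Stable ρ V ∧ x ∈ V := by
  classical
  cases nonempty_fintype G
  let W : X.Opens := Finset.univ.inf fun g : G => (ρ g).hom ⁻¹ᵁ U
  have hWmem : ∀ z, z ∈ W ↔ ∀ g, (ρ g).hom z ∈ U := fun z => by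
    have : ∀ s : Finset G, z ∈ s.inf (fun g : G => (ρ g).hom ⁻¹ᵁ U) ↔
        ∀ g ∈ s, (ρ g).hom z ∈ U := by
      intro s
      induction s using Finset.induction with
      | empty => simp
      | insert a s _ ih => simp [Finset.inf_insert, ih, Scheme.Hom.mem_preimage]
    simpa using this Finset.univ
  have hWU : W ≤ U := fun z hz => by
    have := (hWmem z).mp hz 1
    rwa [hom_one] at this
  have horb : ∀ g, (ρ g).hom x ∈ W := fun g => (hWmem _).mpr fun g' => by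
    rw [← Scheme.Hom.comp_apply, ← hom_mul]; exact hx _
  obtain ⟨I, hI⟩ := (PrimeSpectrum.isClosed_iff_zeroLocus_ideal _).mp
    (W.isOpen.preimage hU.fromSpec.continuous).isClosed_compl
  let P : G → PrimeSpectrum Γ(X, U) := fun g => hU.primeIdealOf ⟨_, hx g⟩
  have hP : ∀ g, hU.fromSpec (P g) = (ρ g).hom x := fun g => hU.fromSpec_primeIdealOf ⟨_, hx g⟩
  have hnot : ∀ g, ¬ I ≤ (P g).asIdeal := fun g h => by
    have h1 : P g ∈ PrimeSpectrum.zeroLocus (I : Set Γ(X, U)) := h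
    rw [← hI] at h1
    exact h1 (show hU.fromSpec (P g) ∈ W from (hP g).symm ▸ horb g)
  obtain ⟨f, hfI, hf⟩ : ∃ f ∈ I, ∀ g, f ∉ (P g).asIdeal := by
    by_contra hcon
    push Not at hcon
    obtain ⟨g, -, hg⟩ := (Ideal.subset_union_prime (s := (Finset.univ : Finset G))
      (f := fun g => (P g).asIdeal) 1 1 fun i _ _ _ => (P i).isPrime).mp fun f hf => by
        obtain ⟨g, hg⟩ := hcon f hf
        exact Set.mem_biUnion (Finset.mem_coe.mpr (Finset.mem_univ g)) hg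
    exact hnot g hg
  have hbo : ∀ z : PrimeSpectrum Γ(X, U), hU.fromSpec z ∈ X.basicOpen f ↔ f ∉ z.asIdeal := fun z => by
    have := congrArg (fun V : (Spec Γ(X, U)).Opens => z ∈ V) (hU.fromSpec_preimage_basicOpen f)
    exact Iff.of_eq this
  have hDW : X.basicOpen f ≤ W := fun z hz => by
    obtain ⟨q, rfl⟩ : ∃ q, hU.fromSpec q = z := ⟨_, hU.fromSpec_primeIdealOf ⟨z, X.basicOpen_le f hz⟩⟩
    by_contra hq
    have h1 : q ∈ (hU.fromSpec ⁻¹' (W : Set X))ᶜ := hq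
    rw [hI] at h1
    exact (hbo q).mp hz (h1 hfI)
  have horbD : ∀ g, (ρ g).hom x ∈ X.basicOpen f := fun g => by
    rw [← hP g, hbo]; exact hf g
  let F : G → Γ(X, X.basicOpen f) := fun g =>
    ((ρ g).hom.appLE U (X.basicOpen f) (fun z hz => (hWmem z).mp (hDW hz) g)).hom f
  refine ⟨X.basicOpen (∏ g, F g), (hU.basicOpen f).basicOpen _, ?_, ?_⟩
  · have key : ∀ z, z ∈ X.basicOpen (∏ g, F g) ↔ ∀ g, (ρ g).hom z ∈ X.basicOpen f := by
      intro z
      constructor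
      · intro hz g
        have hzD := X.basicOpen_le _ hz
        rw [Scheme.mem_basicOpen _ _ z hzD, map_prod, IsUnit.prod_univ_iff] at hz
        have : z ∈ X.basicOpen (F g) := (Scheme.mem_basicOpen _ _ z hzD).mpr (hz g)
        rw [Scheme.basicOpen_appLE] at this
        exact this.2
      · intro hz
        have hzD : z ∈ X.basicOpen f := by have := hz 1; rwa [hom_one] at this
        rw [Scheme.mem_basicOpen _ _ z hzD, map_prod, IsUnit.prod_univ_iff]
        intro g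
        rw [← Scheme.mem_basicOpen, Scheme.basicOpen_appLE]
        exact ⟨hzD, hz g⟩
    intro g z hz
    refine (key _).mpr fun g' => ?_
    rw [← Scheme.Hom.comp_apply, ← hom_mul]
    exact (key z).mp hz _
  · have hxD : x ∈ X.basicOpen f := by have := horbD 1; rwa [hom_one] at this
    rw [Scheme.mem_basicOpen _ _ x hxD, map_prod, IsUnit.prod_univ_iff]
    intro g
    rw [← Scheme.mem_basicOpen, Scheme.basicOpen_appLE]
    exact ⟨hxD, horbD g⟩

omit [Finite G] in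
theorem ι_act_apply {W : X.Opens} (hW : Stable ρ W) (g : G) (w : W.toScheme) :
    W.ι ((stabAct hW g).hom w) = (ρ g).hom (W.ι w) := by
  rw [← Scheme.Hom.comp_apply, stabAct_comp_ι, Scheme.Hom.comp_apply]

theorem sub_quotient {W W' : X.Opens} (hW : Stable ρ W) (hW' : Stable ρ W') (h : W' ≤ W)
    {p : W.toScheme ⟶ Y} (hp : SGA1.IsQuot (stabAct hW) p) :
    ∃ (U : Y.Opens) (p' : W'.toScheme ⟶ U.toScheme), SGA1.IsQuot (stabAct hW') p' ∧
      p' ≫ U.ι = X.homOfLE h ≫ p := by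
  have hι : ∀ w, W.ι ((X.homOfLE h) w) = W'.ι w := fun w => by
    rw [← Scheme.Hom.comp_apply, Scheme.homOfLE_ι]
  have hpre : p ⁻¹' (p '' Set.range (X.homOfLE h)) = Set.range (X.homOfLE h) := by
    refine le_antisymm ?_ (Set.subset_preimage_image _ _)
    rintro w ⟨_, ⟨w', rfl⟩, hw⟩
    obtain ⟨g, hg⟩ := exists_of_base_eq hp hw
    refine ⟨(stabAct hW' g).hom w', ?_⟩
    rw [← hg, ← Scheme.Hom.comp_apply, stabAct_homOfLE hW' hW h, Scheme.Hom.comp_apply]
  let U : Y.Opens := ⟨p '' Set.range (X.homOfLE h), (isQuotientMap hp).isOpen_preimage.mp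
    (by rw [hpre]; exact (X.homOfLE h).isOpenEmbedding.isOpen_range)⟩
  let e := IsOpenImmersion.isoOfRangeEq (X.homOfLE h) (p ⁻¹ᵁ U).ι
    (by rw [Scheme.Opens.range_ι]; exact hpre.symm)
  have he : e.hom ≫ (p ⁻¹ᵁ U).ι = X.homOfLE h := IsOpenImmersion.isoOfRangeEq_hom_fac _ _ _
  have hq := of_iso (restrict hp U (stabAct (stable_preimage hp.inv U)) (stabAct_comp_ι _))
    (stabAct hW') e (Iso.refl _) fun g => by
      rw [← cancel_mono (p ⁻¹ᵁ U).ι, Category.assoc, Category.assoc, he, stabAct_comp_ι,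
        ← Category.assoc, he, stabAct_homOfLE hW' hW h]
  refine ⟨U, _, hq, ?_⟩
  simp only [Iso.refl_hom, Category.comp_id, Category.assoc, morphismRestrict_ι]
  rw [← Category.assoc, he]

variable (ρ) in
/-- Stable opens that admit a quotient. -/
def QOpen : Type u :=
  {W : X.Opens // ∃ (hW : Stable ρ W) (Y : Scheme.{u}) (p : W.toScheme ⟶ Y),
    SGA1.IsQuot (stabAct hW) p}

instance : Preorder (QOpen ρ) := Preorder.lift (fun i => i.1)

namespace QOpen

variable (i : QOpen ρ)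

theorem st : Stable ρ i.1 := i.2.choose
noncomputable def quotY : Scheme.{u} := i.2.choose_spec.choose
noncomputable def p : i.1.toScheme ⟶ i.quotY := i.2.choose_spec.choose_spec.choose
theorem isQuot : SGA1.IsQuot (stabAct i.st) i.p := i.2.choose_spec.choose_spec.choose_spec

theorem exists_map {i j : QOpen ρ} (h : i.1 ≤ j.1) :
    ∃! k : i.quotY ⟶ j.quotY, i.p ≫ k = X.homOfLE h ≫ j.p :=
  existsUnique_desc i.isQuot _ fun g => by
    rw [← Category.assoc, stabAct_homOfLE i.st j.st h, Category.assoc, j.isQuot.inv]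

noncomputable def map {i j : QOpen ρ} (h : i.1 ≤ j.1) : i.quotY ⟶ j.quotY := (exists_map h).choose

theorem p_map {i j : QOpen ρ} (h : i.1 ≤ j.1) : i.p ≫ map h = X.homOfLE h ≫ j.p :=
  (exists_map h).choose_spec.1

instance isOpenImmersion_map {i j : QOpen ρ} (h : i.1 ≤ j.1) : IsOpenImmersion (map h) := by
  obtain ⟨U, p', hp', he⟩ := sub_quotient j.st i.st h j.isQuot
  obtain ⟨a, ha⟩ := exists_desc i.isQuot p' hp'.inv
  obtain ⟨b, hb⟩ := exists_desc hp' i.p i.isQuot.inv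
  have : IsIso a := ⟨b, eq_of_comp_eq i.isQuot (by rw [← Category.assoc, ha, hb, Category.comp_id]),
    eq_of_comp_eq hp' (by rw [← Category.assoc, hb, ha, Category.comp_id])⟩
  have : map h = a ≫ U.ι := eq_of_comp_eq i.isQuot (by rw [p_map, ← Category.assoc, ha, he])
  rw [this]; infer_instance

variable (ρ) in
noncomputable def F : QOpen ρ ⥤ Scheme.{u} where
  obj := quotY
  map f := map (leOfHom f)
  map_id i := eq_of_comp_eq i.isQuot (by simp [p_map])
  map_comp {i j k} f g := eq_of_comp_eq i.isQuot (by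
    rw [p_map, ← Category.assoc, p_map, Category.assoc, p_map, ← Category.assoc,
      Scheme.homOfLE_homOfLE])

instance {i j : QOpen ρ} (f : i ⟶ j) : IsOpenImmersion ((F ρ).map f) :=
  inferInstanceAs (IsOpenImmersion (map (leOfHom f)))

theorem mem_of_le {i : QOpen ρ} {W : X.Opens} (hW : Stable ρ W) (h : W ≤ i.1) :
    ∃ (hW : Stable ρ W) (Y : Scheme.{u}) (p : W.toScheme ⟶ Y),
      SGA1.IsQuot (stabAct hW) p :=
  let ⟨U, p', hp', _⟩ := sub_quotient i.st hW h i.isQuot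
  ⟨hW, U, p', hp'⟩

theorem ι_incl {i j : QOpen ρ} (h : i.1 ≤ j.1) (w : i.1.toScheme) :
    j.1.ι ((X.homOfLE h) w) = i.1.ι w := by
  rw [← Scheme.Hom.comp_apply, Scheme.homOfLE_ι]

theorem map_p {i j : QOpen ρ} (h : i.1 ≤ j.1) (w : i.1.toScheme) :
    map h (i.p w) = j.p (X.homOfLE h w) := by
  rw [← Scheme.Hom.comp_apply, p_map, Scheme.Hom.comp_apply]

theorem p_eq_iff (i : QOpen ρ) (v w : i.1.toScheme) :
    i.p v = i.p w ↔ ∃ g : G, (ρ g).hom (i.1.ι v) = i.1.ι w := by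
  rw [base_eq_iff i.isQuot]
  exact exists_congr fun g => by
    rw [← ι_act_apply i.st, i.1.ι.isOpenEmbedding.injective.eq_iff]

instance : ((F ρ) ⋙ Scheme.forget).IsLocallyDirected := by
  constructor
  intro i j k fi fj xi xj hx
  obtain ⟨wi, rfl⟩ := surjective i.isQuot xi
  obtain ⟨wj, rfl⟩ := surjective j.isQuot xj
  have hx' : map (leOfHom fi) (i.p wi) = map (leOfHom fj) (j.p wj) := hx
  rw [map_p, map_p, p_eq_iff] at hx'
  obtain ⟨g, hg⟩ := hx'
  rw [ι_incl, ι_incl] at hg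
  let l : QOpen ρ := ⟨i.1 ⊓ j.1, mem_of_le (i.st.inf j.st) inf_le_left⟩
  have hwl : j.1.ι wj ∈ l.1 :=
    ⟨by rw [← hg]; exact i.st g wi.2, wj.2⟩
  refine ⟨l, homOfLE (inf_le_left : l.1 ≤ i.1), homOfLE (inf_le_right : l.1 ≤ j.1),
    l.p ⟨_, hwl⟩, ?_, ?_⟩
  · change map (inf_le_left : l.1 ≤ i.1) (l.p ⟨_, hwl⟩) = i.p wi
    rw [map_p, p_eq_iff]
    refine ⟨g⁻¹, (congrArg (ρ g⁻¹).hom (ι_incl _ _)).trans ?_⟩
    change (ρ g⁻¹).hom (j.1.ι wj) = i.1.ι wi
    rw [← hg, ← Scheme.Hom.comp_apply, ← hom_mul, inv_mul_cancel, hom_one]; rfl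
  · change map (inf_le_right : l.1 ≤ j.1) (l.p ⟨_, hwl⟩) = j.p wj
    rw [map_p]
    exact congrArg j.p (j.1.ι.isOpenEmbedding.injective (ι_incl _ _))

end QOpen

open QOpen in
theorem exists_quot (ρ : G →* Aut X)
    (h : ∀ x : X, ∃ U : X.Opens, IsAffineOpen U ∧ ∀ g : G, (ρ g).hom x ∈ U) :
    ∃ (Y : Scheme.{u}) (p : X ⟶ Y), SGA1.IsQuot ρ p := by
  have hcov : ∀ x : X, ∃ i : QOpen ρ, x ∈ i.1 := fun x => by
    obtain ⟨U, hU, hx⟩ := h x
    obtain ⟨V, hV, hst, hxV⟩ := exists_stable_affine ρ hU x hx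
    have : IsAffine V.toScheme := hV
    exact ⟨⟨V, hst, exists_quot_of_isAffine (stabAct hst)⟩, hxV⟩
  let 𝒰 : X.OpenCover := X.openCoverOfIsOpenCover (fun i : QOpen ρ => i.1)
    (eq_top_iff.mpr fun x _ => Opens.mem_iSup.mpr (hcov x))
  let f : ∀ i : QOpen ρ, i.1.toScheme ⟶ colimit (F ρ) := fun i => i.p ≫ colimit.ι (F ρ) i
  have hf : ∀ i j : QOpen ρ, pullback.fst i.1.ι j.1.ι ≫ f i = pullback.snd i.1.ι j.1.ι ≫ f j := by
    intro i j
    let l : QOpen ρ := ⟨i.1 ⊓ j.1, mem_of_le (i.st.inf j.st) inf_le_left⟩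
    let a := IsOpenImmersion.lift l.1.ι (pullback.fst i.1.ι j.1.ι ≫ i.1.ι) (by
      rintro _ ⟨z, rfl⟩
      rw [Scheme.Opens.range_ι]
      refine ⟨(pullback.fst i.1.ι j.1.ι z).2, ?_⟩
      have := congrArg (fun m => m z) (pullback.condition (f := i.1.ι) (g := j.1.ι))
      change (pullback.fst i.1.ι j.1.ι ≫ i.1.ι) z ∈ j.1
      rw [show (pullback.fst i.1.ι j.1.ι ≫ i.1.ι) z = (pullback.snd i.1.ι j.1.ι ≫ j.1.ι) z from this]
      exact (pullback.snd i.1.ι j.1.ι z).2)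
    have ha : a ≫ l.1.ι = pullback.fst i.1.ι j.1.ι ≫ i.1.ι := IsOpenImmersion.lift_fac _ _ _
    have key : ∀ (k : QOpen ρ) (hlk : l.1 ≤ k.1),
        a ≫ X.homOfLE hlk ≫ f k = a ≫ l.p ≫ colimit.ι (F ρ) l := fun k hlk => by
      simp only [f]
      rw [← colimit.w (F ρ) (homOfLE (show l ≤ k from hlk)), ← Category.assoc (X.homOfLE hlk),
        ← p_map hlk, Category.assoc]
      rfl
    have h1 : a ≫ X.homOfLE (inf_le_left : l.1 ≤ i.1) = pullback.fst i.1.ι j.1.ι := by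
      rw [← cancel_mono i.1.ι, Category.assoc, Scheme.homOfLE_ι, ha]
    have h2 : a ≫ X.homOfLE (inf_le_right : l.1 ≤ j.1) = pullback.snd i.1.ι j.1.ι := by
      rw [← cancel_mono j.1.ι, Category.assoc, Scheme.homOfLE_ι, ha, pullback.condition]
    rw [← h1, ← h2, Category.assoc, Category.assoc, key i inf_le_left, key j inf_le_right]
  let p : X ⟶ colimit (F ρ) := 𝒰.glueMorphisms f hf
  have hp : ∀ i : QOpen ρ, i.1.ι ≫ p = i.p ≫ colimit.ι (F ρ) i :=
    fun i => 𝒰.ι_glueMorphisms f hf i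
  have hinv : ∀ g, (ρ g).hom ≫ p = p := fun g => 𝒰.hom_ext _ _ fun i => by
    change i.1.ι ≫ (ρ g).hom ≫ p = i.1.ι ≫ p
    rw [← Category.assoc, ← stabAct_comp_ι i.st g, Category.assoc, hp, ← Category.assoc,
      i.isQuot.inv]
  have hpre : ∀ i, p ⁻¹ᵁ (colimit.ι (F ρ) i).opensRange = i.1 := by
    intro i
    ext x
    constructor
    · rintro ⟨y, hy⟩
      obtain ⟨j, hj⟩ := hcov x
      let w : j.1.toScheme := ⟨x, hj⟩
      have hpx : colimit.ι (F ρ) i y = colimit.ι (F ρ) j (j.p w) := by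
        rw [hy]; exact congrArg (fun m => m w) (hp j)
      obtain ⟨k, fi, fj, z, -, hz⟩ := (Scheme.IsLocallyDirected.ι_eq_ι_iff (F ρ)).mp hpx
      obtain ⟨v, rfl⟩ := surjective k.isQuot z
      have hz' : map (leOfHom fj) (k.p v) = j.p w := hz
      rw [map_p, p_eq_iff] at hz'
      obtain ⟨g, hg⟩ := hz'
      rw [ι_incl] at hg
      change x ∈ i.1
      rw [show x = j.1.ι w from rfl, ← hg]
      exact i.st g ((leOfHom fi : k.1 ≤ i.1) v.2)
    · intro hx
      exact ⟨i.p ⟨x, hx⟩, (congrArg (fun m => m ⟨x, hx⟩) (hp i)).symm⟩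
  refine ⟨_, p, of_local hinv (fun i => (colimit.ι (F ρ) i).opensRange) (fun y => ?_) fun i => ?_⟩
  · obtain ⟨i, xi, hi⟩ := Scheme.IsLocallyDirected.ι_jointly_surjective (F ρ) y
    exact ⟨i, xi, hi⟩
  · let V := p ⁻¹ᵁ (colimit.ι (F ρ) i).opensRange
    let e := IsOpenImmersion.isoOfRangeEq V.ι i.1.ι (by simp [V, hpre])
    have he : e.hom ≫ i.1.ι = V.ι := IsOpenImmersion.isoOfRangeEq_hom_fac _ _ _
    convert of_iso i.isQuot (stabAct (stable_preimage hinv (colimit.ι (F ρ) i).opensRange)) e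
      (colimit.ι (F ρ) i).isoOpensRange (fun g => by
        rw [← cancel_mono i.1.ι, Category.assoc, Category.assoc, he, stabAct_comp_ι,
          stabAct_comp_ι, ← Category.assoc, he])
    rw [← cancel_mono (colimit.ι (F ρ) i).opensRange.ι, morphismRestrict_ι, Category.assoc,
      Category.assoc]
    refine Eq.trans ?_ (congrArg (fun m => e.hom ≫ i.p ≫ m)
      (Scheme.Hom.isoOpensRange_hom_ι (colimit.ι (F ρ) i)).symm)
    refine Eq.trans ?_ (congrArg (fun m => e.hom ≫ m) (hp i))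
    rw [← Category.assoc, he]

end Quot84
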