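import Groth.Agent.Quot84.Desc
import Groth.Agent.MorE57.Descent

/-! # Finiteness properties of quotients by finite groups -/

set_option autoImplicit false
universe u
open CategoryTheory AlgebraicGeometry TopologicalSpace Opposite

namespace Quot84

variable {X Y Z : Scheme.{u}} {G : Type u} [Group G] {ρ : G →* Aut X} {p : X ⟶ Y}

/-- Restriction of the action to the preimage of an open. -/
noncomputable def restrAct (hinv : ∀ g : G, (ρ g).hom ≫ p = p) (U : Y.Opens) :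
    G →* Aut (p ⁻¹ᵁ U).toScheme :=
  let r : G → ((p ⁻¹ᵁ U).toScheme ⟶ (p ⁻¹ᵁ U).toScheme) := fun g =>
    (ρ g).hom.resLE (p ⁻¹ᵁ U) (p ⁻¹ᵁ U) (SGA1.preimage_le_of_inv ρ p hinv g U)
  have hr : ∀ g h, r (g * h) = r h ≫ r g := fun g h => by
    rw [← cancel_mono (p ⁻¹ᵁ U).ι]
    simp only [r, Category.assoc, Scheme.Hom.resLE_comp_ι, Scheme.Hom.resLE_comp_ι_assoc,
      hom_mul]
  have h1 : r 1 = 𝟙 _ := by
    rw [← cancel_mono (p ⁻¹ᵁ U).ι]
    simp only [r, Scheme.Hom.resLE_comp_ι, hom_one, Category.comp_id, Category.id_comp]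
  { toFun := fun g => ⟨r g, r g⁻¹, by rw [← hr, inv_mul_cancel, h1], by
      rw [← hr, mul_inv_cancel, h1]⟩
    map_one' := Iso.ext h1
    map_mul' := fun g h => Iso.ext (hr g h) }

theorem restrAct_comp_ι (hinv : ∀ g : G, (ρ g).hom ≫ p = p) (U : Y.Opens) (g : G) :
    (restrAct hinv U g).hom ≫ (p ⁻¹ᵁ U).ι = (p ⁻¹ᵁ U).ι ≫ (ρ g).hom :=
  Scheme.Hom.resLE_comp_ι _ _

theorem isQuot_restrict (hp : SGA1.IsQuot ρ p) (U : Y.Opens) :
    SGA1.IsQuot (restrAct hp.inv U) (p ∣_ U) :=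
  restrict hp U _ (restrAct_comp_ι hp.inv U)

/-- A quotient of an affine scheme is affine. -/
theorem isAffine_of_isAffine [Finite G] (hp : SGA1.IsQuot ρ p) [IsAffine X] : IsAffine Y := by
  let ρ' : G →* Aut (Spec Γ(X, ⊤)) := (X.isoSpec.conjAut.toMonoidHom).comp ρ
  have hρ' : ∀ g, (ρ' g).hom = Spec.map (ρ g).hom.appTop := fun g => by
    change X.isoSpec.inv ≫ (ρ g).hom ≫ X.isoSpec.hom = _
    rw [Iso.inv_comp_eq, Scheme.isoSpec_hom_naturality]
  have htop : ∀ g, pull p (ρ g).hom (hp.inv g) ⊤ = (ρ g).hom.appTop := fun g =>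
    Scheme.Hom.appLE_eq_app _
  have hq : SGA1.IsQuot ρ' (Spec.map p.appTop) := by
    refine isQuot_Spec p.appTop ρ' (fun g => (ρ g).hom.appTop) (fun g => ?_) (hp.injective ⊤)
      (fun a ha => ?_) ?_
    · rw [← htop g]; exact app_pull p (hp.inv g) ⊤
    · refine (hp.range_iff ⊤ a).mpr fun g => ?_
      change (pull p (ρ g).hom (hp.inv g) ⊤).hom a = a
      rw [htop g]; exact ha g
    · exact congrArg Set.range (funext hρ')
  have hc : p ≫ Y.toSpecΓ = X.isoSpec.hom ≫ Spec.map p.appTop :=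
    (Scheme.toSpecΓ_naturality p)
  obtain ⟨k, hk⟩ := exists_desc hq (X.isoSpec.inv ≫ p) fun g => by
    change (X.isoSpec.inv ≫ (ρ g).hom ≫ X.isoSpec.hom) ≫ X.isoSpec.inv ≫ p = _
    simp [hp.inv g]
  have : IsIso Y.toSpecΓ := ⟨k, eq_of_comp_eq hp (by
      rw [← Category.assoc, hc, Category.assoc, hk, Iso.hom_inv_id_assoc, Category.comp_id]),
    eq_of_comp_eq hq (by
      rw [← Category.assoc, hk, Category.assoc, hc, Iso.inv_hom_id_assoc, Category.comp_id])⟩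
  exact .of_isIso Y.toSpecΓ

theorem isAffineHom_iff [Finite G] (hp : SGA1.IsQuot ρ p) (q : Y ⟶ Z) :
    IsAffineHom (p ≫ q) ↔ IsAffineHom q := by
  have := hp.affine
  refine ⟨fun h => ⟨fun V hV => ?_⟩, fun _ => inferInstance⟩
  have hf : IsAffineOpen (p ⁻¹ᵁ q ⁻¹ᵁ V) := hV.preimage (p ≫ q)
  have : IsAffine (p ⁻¹ᵁ q ⁻¹ᵁ V).toScheme := hf
  exact isAffine_of_isAffine (isQuot_restrict hp (q ⁻¹ᵁ V))

theorem isSeparated_iff [Finite G] (hp : SGA1.IsQuot ρ p) (q : Y ⟶ Z) :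
    IsSeparated (p ≫ q) ↔ IsSeparated q := by
  have := hp.affine
  have := isIntegralHom hp
  have : Surjective p := ⟨surjective hp⟩
  exact ⟨fun _ => Groth.Agent.MorE57.isSeparated_of_surjective (p ≫ q) q p rfl, fun _ => inferInstance⟩

theorem isFinite_of_locallyOfFiniteType [Finite G] (hp : SGA1.IsQuot ρ p) (q : Y ⟶ Z)
    [LocallyOfFiniteType (p ≫ q)] : IsFinite p :=
  (IsFinite.iff_isIntegralHom_and_locallyOfFiniteType p).mpr
    ⟨isIntegralHom hp, locallyOfFiniteType_of_comp p q⟩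

theorem locallyOfFiniteType_desc [Finite G] (hp : SGA1.IsQuot ρ p) (q : Y ⟶ Z)
    [LocallyOfFiniteType (p ≫ q)] [IsLocallyNoetherian Z] : LocallyOfFiniteType q := by
  have := hp.affine
  have := isFinite_of_locallyOfFiniteType hp q
  refine ⟨fun {V} hV {U} hU e => ?_⟩
  have hW : IsAffineOpen (p ⁻¹ᵁ U) := hU.preimage p
  have := IsLocallyNoetherian.component_noetherian (X := Z) ⟨V, hV⟩
  let := (q.appLE V U e).hom.toAlgebra
  let := (p.app U).hom.toAlgebra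
  let := (q.appLE V U e ≫ p.app U).hom.toAlgebra
  have := IsScalarTower.of_algebraMap_eq' (R := Γ(Z, V)) (S := Γ(Y, U)) (A := Γ(X, p ⁻¹ᵁ U)) rfl
  have hAC : Algebra.FiniteType Γ(Z, V) Γ(X, p ⁻¹ᵁ U) := by
    have h := (p ≫ q).finiteType_appLE hV hW (show p ⁻¹ᵁ U ≤ (p ≫ q) ⁻¹ᵁ V from p.preimage_mono e)
    rw [← Scheme.Hom.appLE_comp_appLE p q V U (p ⁻¹ᵁ U) e le_rfl, Scheme.Hom.appLE_eq_app] at h
    exact h
  have hBC : Module.Finite Γ(Y, U) Γ(X, p ⁻¹ᵁ U) := p.finite_app U hU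
  exact ⟨fg_of_fg_of_fg Γ(Z, V) Γ(Y, U) Γ(X, p ⁻¹ᵁ U) hAC.out hBC.fg_top (hp.injective U)⟩

theorem quasiCompact_desc [Finite G] (hp : SGA1.IsQuot ρ p) (q : Y ⟶ Z)
    [QuasiCompact (p ≫ q)] : QuasiCompact q := by
  refine ⟨fun U hU hU' => ?_⟩
  have h := QuasiCompact.isCompact_preimage (f := p ≫ q) U hU hU'
  have e : (q : Y → Z) ⁻¹' U = (p : X → Y) '' (((p ≫ q : X ⟶ Z) : X → Z) ⁻¹' U) := by
    rw [show (((p ≫ q : X ⟶ Z) : X → Z) ⁻¹' U) = (p : X → Y) ⁻¹' ((q : Y → Z) ⁻¹' U) from rfl,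
      (surjective hp).image_preimage]
  rw [e]
  exact h.image p.continuous

end Quot84
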