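import Groth.Agent.Quot84.FlatBC

/-! # Free actions: torsors and flatness -/

set_option autoImplicit false
universe u v w
open CategoryTheory CategoryTheory.Limits AlgebraicGeometry TopologicalSpace Opposite

namespace Quot84

section Ring

variable {A : Type v} {G : Type w} [CommRing A] [Group G] [Fintype G] [MulSemiringAction G A]

variable (G A) in
/-- Galois coordinates `∑ xᵢ g(yᵢ) = δ_{g,1}`. -/
def HasGalCoord [DecidableEq G] : Prop :=
  ∃ (n : ℕ) (x y : Fin n → A), ∀ g : G, ∑ i, x i * g • y i = if g = 1 then 1 else 0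

theorem hasGalCoord [DecidableEq G]
    (h : ∀ g : G, g ≠ 1 → Ideal.span (Set.range fun a : A => g • a - a) = ⊤) :
    HasGalCoord A G := by
  suffices hs : ∀ s : Finset G, (1 : G) ∉ s → ∃ (ι : Type v) (_ : Fintype ι) (x y : ι → A),
      ∑ i, x i * y i = 1 ∧ ∀ g ∈ s, ∑ i, x i * g • y i = 0 by
    obtain ⟨ι, _, x, y, h1, h2⟩ := hs (Finset.univ.erase 1) (Finset.notMem_erase 1 _)
    let e := Fintype.equivFin ι
    refine ⟨_, x ∘ e.symm, y ∘ e.symm, fun g => ?_⟩
    simp only [Function.comp_apply, e.symm.sum_comp (fun i => x i * g • y i)]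
    split_ifs with hg
    · subst hg; simpa using h1
    · exact h2 g (Finset.mem_erase.mpr ⟨hg, Finset.mem_univ g⟩)
  intro s
  induction s using Finset.induction with
  | empty => exact fun _ => ⟨PUnit, inferInstance, fun _ => 1, fun _ => 1, by simp, by simp⟩
  | insert g s hgs ih =>
    intro h1
    rw [Finset.mem_insert, not_or] at h1
    obtain ⟨ι, _, x, y, hx, hy⟩ := ih h1.2
    have : (1 : A) ∈ Ideal.span (Set.range fun a : A => g⁻¹ • a - a) := by
      rw [h g⁻¹ (fun h => h1.1 (inv_eq_one.mp h).symm)]; trivial
    obtain ⟨c, hc⟩ := Finsupp.mem_ideal_span_range_iff_exists_finsupp.mp this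
    classical
    let z := ∑ a ∈ c.support, c a * a
    refine ⟨(↥c.support ⊕ PUnit.{v + 1}) × ι, inferInstance,
      fun p => Sum.elim (fun a : c.support => c a.1) (fun _ => - z) p.1 * x p.2,
      fun p => Sum.elim (fun a : c.support => g⁻¹ • a.1) (fun _ => 1) p.1 * y p.2, ?_, ?_⟩
    all_goals
      have key : ∀ g' : G, ∑ p : (↥c.support ⊕ PUnit.{v + 1}) × ι,
          Sum.elim (fun a : c.support => c a.1) (fun _ => - z) p.1 * x p.2 *
            g' • (Sum.elim (fun a : c.support => g⁻¹ • a.1) (fun _ => 1) p.1 * y p.2) =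
          (∑ a ∈ c.support, c a * ((g' * g⁻¹) • a - a)) * ∑ i, x i * g' • y i := by
        intro g'
        simp only [Fintype.sum_prod_type, Fintype.sum_sum_type, Sum.elim_inl, Sum.elim_inr,
          Finset.univ_unique, Finset.sum_singleton, smul_mul', smul_one, mul_smul]
        rw [Finset.sum_coe_sort c.support (fun a => ∑ i, c a * x i * (g' • g⁻¹ • a * g' • y i))]
        simp only [z, mul_sub, Finset.sum_sub_distrib, sub_mul, Finset.sum_mul, Finset.mul_sum,
          neg_mul, Finset.sum_neg_distrib, ← sub_eq_add_neg]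
        congr 1
        · rw [Finset.sum_comm]
          exact Finset.sum_congr rfl fun a _ => Finset.sum_congr rfl fun i _ => by ring
        · exact Finset.sum_congr rfl fun a _ => Finset.sum_congr rfl fun i _ => by ring
    · have := key 1
      simp only [one_smul, one_mul] at this
      rw [this, hx, mul_one]
      exact hc
    · intro g' hg'
      rw [key]
      rcases Finset.mem_insert.mp hg' with rfl | hg'
      · simp
      · rw [hy g' hg', mul_zero]

variable [DecidableEq G] {R : Type*} [CommRing R] [Algebra R A] [Algebra.IsInvariant R A G]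

theorem flat_of_hasGalCoord [SMulCommClass G R A] (hinj : Function.Injective (algebraMap R A))
    (h : HasGalCoord A G) : Module.Flat R A := by
  obtain ⟨n, x, y, hxy⟩ := h
  have ht : ∀ a : A, ∃ r : R, algebraMap R A r = ∑ g : G, g • a := fun a =>
    Algebra.IsInvariant.isInvariant (A := R) (G := G) _ fun g => by
      rw [Finset.smul_sum]
      exact Fintype.sum_equiv (Equiv.mulLeft g) _ _ (fun k => by simp [mul_smul])
  choose t ht using ht
  let i : A →ₗ[R] (Fin n → R) :=
    { toFun := fun a j => t (y j * a)
      map_add' := fun a b => funext fun j => hinj (by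
        simp only [Pi.add_apply, map_add, ht, mul_add, smul_add, Finset.sum_add_distrib])
      map_smul' := fun r a => funext fun j => hinj (by
        simp only [RingHom.id_apply, Pi.smul_apply, smul_eq_mul, map_mul, ht, mul_smul_comm,
          Finset.mul_sum, ← Algebra.smul_def]
        exact Finset.sum_congr rfl fun g _ => smul_comm g r _) }
  refine Module.Flat.of_retract i
    (∑ j, (LinearMap.proj (R := R) (φ := fun _ : Fin n => R) j).smulRight (x j)) ?_
  ext a
  simp only [LinearMap.comp_apply, LinearMap.sum_apply, LinearMap.smulRight_apply,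
    LinearMap.proj_apply, LinearMap.id_apply, i, LinearMap.coe_mk, AddHom.coe_mk]
  simp only [Algebra.smul_def, ht, Finset.sum_mul, smul_mul']
  rw [Finset.sum_comm]
  have : ∀ g : G, ∑ j, g • y j * g • a * x j = (if g = 1 then 1 else 0) * g • a := fun g => by
    rw [← hxy g, Finset.sum_mul]
    exact Finset.sum_congr rfl fun j _ => by ring
  simp only [this, ite_mul, one_mul, zero_mul, Finset.sum_ite_eq', Finset.mem_univ, if_true,
    one_smul]

theorem exists_idempotents [SMulCommClass G R A] (h : HasGalCoord A G) (e : A →ₐ[R] R) :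
    ∃ E : G → A, (∀ g g' : G, e (g • E g') = if g = g' then 1 else 0) ∧
      ∀ a : A, (∀ g : G, e (g • a) = 0) → a = 0 := by
  obtain ⟨n, x, y, hxy⟩ := h
  refine ⟨fun g => g⁻¹ • ∑ i, e (x i) • y i, fun g g' => ?_, fun a ha => ?_⟩
  · have : e ((g * g'⁻¹) • ∑ i, e (x i) • y i) = e (∑ i, x i * (g * g'⁻¹) • y i) := by
      simp only [Finset.smul_sum, map_sum, smul_comm (g * g'⁻¹) (_ : R), map_smul, smul_eq_mul,
        map_mul]
    rw [← mul_smul, this, hxy]
    simp only [mul_inv_eq_one]
    split_ifs <;> simp
  · have key : a = ∑ i, y i * ∑ g : G, g • (x i * a) := by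
      simp only [Finset.mul_sum, smul_mul']
      rw [Finset.sum_comm]
      have : ∀ g : G, ∑ i, y i * (g • x i * g • a) = (if g = 1 then 1 else 0) * g • a := fun g => by
        have h1 : ∑ i, g • x i * y i = if g = 1 then 1 else 0 := by
          have h2 := congrArg (g • ·) (hxy g⁻¹)
          simp only [Finset.smul_sum, smul_mul', smul_inv_smul, inv_eq_one] at h2
          rw [h2]; split_ifs <;> simp
        rw [← h1, Finset.sum_mul]
        exact Finset.sum_congr rfl fun i _ => by ring
      simp only [this, ite_mul, one_mul, zero_mul, Finset.sum_ite_eq', Finset.mem_univ, if_true,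
        one_smul]
    have ht : ∀ i, ∑ g : G, g • (x i * a) = 0 := by
      intro i
      obtain ⟨r, hr⟩ := Algebra.IsInvariant.isInvariant (A := R) (G := G)
        (∑ g : G, g • (x i * a)) (fun k => by
          rw [Finset.smul_sum]
          exact Fintype.sum_equiv (Equiv.mulLeft k) _ _ (fun m => by simp [mul_smul]))
      rw [← hr]
      have h3 := congrArg e hr
      simp only [map_sum, smul_mul', map_mul, ha, mul_zero, Finset.sum_const_zero,
        e.commutes] at h3
      rw [show r = 0 from h3, map_zero]
    rw [key]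
    simp only [ht, mul_zero, Finset.sum_const_zero]

end Ring

end Quot84
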