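import Groth.Agent.Quot84.Props

/-! # Residue field extensions of quotients by finite groups -/

set_option autoImplicit false
universe u
open CategoryTheory AlgebraicGeometry TopologicalSpace Opposite
open scoped Pointwise

namespace Quot84

variable {X Y : Scheme.{u}}

theorem eval_eq_zero_iff {U : X.Opens} (hU : IsAffineOpen U) {x : X} (hx : x ∈ U) (a : Γ(X, U)) :
    (X.evaluation U x hx).hom a = 0 ↔ a ∈ (hU.primeIdealOf ⟨x, hx⟩).asIdeal := by
  have := hU.isLocalization_stalk ⟨x, hx⟩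
  let := TopCat.Presheaf.algebra_section_stalk X.presheaf ⟨x, hx⟩
  rw [Scheme.evaluation_eq_zero_iff_notMem_basicOpen, Scheme.mem_basicOpen _ _ x hx]
  have h := IsLocalization.AtPrime.isUnit_to_map_iff (X.presheaf.stalk x)
    (hU.primeIdealOf ⟨x, hx⟩).asIdeal a
  exact (not_congr h).trans (by simp [Ideal.primeCompl])

theorem eval_surj {U : X.Opens} (hU : IsAffineOpen U) {x : X} (hx : x ∈ U) (z : X.residueField x) :
    ∃ a b, z = (X.evaluation U x hx).hom a / (X.evaluation U x hx).hom b := by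
  have := hU.isLocalization_stalk ⟨x, hx⟩
  let := TopCat.Presheaf.algebra_section_stalk X.presheaf ⟨x, hx⟩
  obtain ⟨w, rfl⟩ := IsLocalRing.residue_surjective z
  obtain ⟨a, b, rfl⟩ := IsLocalization.exists_mk'_eq (hU.primeIdealOf ⟨x, hx⟩).asIdeal.primeCompl w
  have hb : (X.evaluation U x hx).hom b ≠ 0 := fun h => b.2 ((eval_eq_zero_iff hU hx b).mp h)
  refine ⟨a, b, (eq_div_iff hb).mpr ?_⟩
  have h := congrArg (IsLocalRing.residue (X.presheaf.stalk x))
    (IsLocalization.mk'_spec (X.presheaf.stalk x) a b)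
  rw [map_mul] at h
  exact h

/-- `A ⧸ Q ⟶ κ(x)` for an affine open `Spec A ∋ x`. -/
@[reducible] noncomputable def evalAlgebra {U : X.Opens} (hU : IsAffineOpen U) {x : X}
    (hx : x ∈ U) : Algebra (Γ(X, U) ⧸ (hU.primeIdealOf ⟨x, hx⟩).asIdeal) (X.residueField x) :=
  (Ideal.Quotient.lift _ (X.evaluation U x hx).hom fun a ha =>
    (eval_eq_zero_iff hU hx a).mpr ha).toAlgebra

theorem isFractionRing_eval {U : X.Opens} (hU : IsAffineOpen U) {x : X} (hx : x ∈ U) :
    letI := evalAlgebra hU hx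
    IsFractionRing (Γ(X, U) ⧸ (hU.primeIdealOf ⟨x, hx⟩).asIdeal) (X.residueField x) := by
  let := evalAlgebra hU hx
  have : FaithfulSMul (Γ(X, U) ⧸ (hU.primeIdealOf ⟨x, hx⟩).asIdeal) (X.residueField x) := by
    rw [faithfulSMul_iff_algebraMap_injective]
    exact RingHom.lift_injective_of_ker_le_ideal _ _ fun a ha => (eval_eq_zero_iff hU hx a).mp ha
  refine IsFractionRing.of_field _ _ fun z => ?_
  obtain ⟨a, b, rfl⟩ := eval_surj hU hx z
  exact ⟨Ideal.Quotient.mk _ a, Ideal.Quotient.mk _ b, rfl⟩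

variable {G : Type u} [Group G] {ρ : G →* Aut X} {p : X ⟶ Y}

theorem congr_inv_eval {U : X.Opens} {x y : X} (e : y = x) (hy : y ∈ U) (hx : x ∈ U)
    (a : Γ(X, U)) :
    (X.residueFieldCongr e).inv.hom ((X.evaluation U x hx).hom a) =
      (X.evaluation U y hy).hom a := by
  subst e; rfl

theorem eval_res {U V : X.Opens} (i : V ≤ U) {x : X} (hx : x ∈ V) (a : Γ(X, U)) :
    (X.evaluation V x hx).hom ((X.presheaf.map (homOfLE i).op).hom a) =
      (X.evaluation U x (i hx)).hom a :=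
  congrArg (X.residue x).hom (TopCat.Presheaf.germ_res_apply X.presheaf (homOfLE i) x hx a)

theorem normal_and_stabilizer_surjective [Finite G] (hp : SGA1.IsQuot ρ p) (x : X) :
    (letI := (p.residueFieldMap x).hom.toAlgebra
     Normal (Y.residueField (p x)) (X.residueField x)) ∧
    ∀ τ : X.residueField x ≅ X.residueField x,
      p.residueFieldMap x ≫ τ.hom = p.residueFieldMap x →
      ∃ (g : G) (e : (ρ g).hom x = x),
        τ.hom = (X.residueFieldCongr e).inv ≫ (ρ g).hom.residueFieldMap x := by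
  obtain ⟨U, hU, hyU, -⟩ := exists_isAffineOpen_mem_and_subset (x := p x) (U := ⊤) trivial
  have := hp.affine
  have hV : IsAffineOpen (p ⁻¹ᵁ U) := hU.preimage p
  have hxV : x ∈ p ⁻¹ᵁ U := hyU
  let := act hp.inv U
  let := (p.app U).hom.toAlgebra
  have := isInvariant hp U
  have := smulCommClass hp U
  let P := (hU.primeIdealOf ⟨p x, hyU⟩).asIdeal
  let Q := (hV.primeIdealOf ⟨x, hxV⟩).asIdeal
  let := evalAlgebra hU hyU
  let := evalAlgebra hV hxV
  have := isFractionRing_eval hU hyU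
  have := isFractionRing_eval hV hxV
  let alg := (p.residueFieldMap x).hom.toAlgebra
  have nat : ∀ a : Γ(Y, U), (p.residueFieldMap x).hom ((Y.evaluation U (p x) hyU).hom a) =
      (X.evaluation (p ⁻¹ᵁ U) x hxV).hom ((p.app U).hom a) :=
    Scheme.evaluation_naturality_apply p x hyU
  have : Q.LiesOver P := ⟨by
    ext a
    change a ∈ P ↔ (p.app U).hom a ∈ Q
    rw [← eval_eq_zero_iff hU hyU, ← eval_eq_zero_iff hV hxV, ← nat,
      map_eq_zero (p.residueFieldMap x).hom]⟩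
  let : Algebra (Γ(Y, U) ⧸ P) (X.residueField x) :=
    ((algebraMap (Y.residueField (p x)) (X.residueField x)).comp
      (algebraMap (Γ(Y, U) ⧸ P) (Y.residueField (p x)))).toAlgebra
  have : IsScalarTower (Γ(Y, U) ⧸ P) (Y.residueField (p x)) (X.residueField x) :=
    IsScalarTower.of_algebraMap_eq' rfl
  have : IsScalarTower (Γ(Y, U) ⧸ P) (Γ(X, p ⁻¹ᵁ U) ⧸ Q) (X.residueField x) :=
    IsScalarTower.of_algebraMap_eq fun a => by
      obtain ⟨a, rfl⟩ := Ideal.Quotient.mk_surjective a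
      exact nat a
  refine ⟨Ideal.IsFractionRing.normal G P Q (Y.residueField (p x)) (X.residueField x),
    fun τ hτ => ?_⟩
  let f : X.residueField x ≃ₐ[Y.residueField (p x)] X.residueField x :=
    AlgEquiv.ofRingEquiv (f := τ.commRingCatIsoToRingEquiv) fun k =>
      congrArg (fun m => m.hom k) hτ
  obtain ⟨σ, hσ⟩ := IsFractionRing.stabilizerHom_surjective G P Q (Y.residueField (p x))
    (X.residueField x) f
  have key : ∀ a, τ.hom.hom ((X.evaluation (p ⁻¹ᵁ U) x hxV).hom a) =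
      (X.evaluation (p ⁻¹ᵁ U) x hxV).hom ((pull p (ρ σ.1⁻¹).hom (hp.inv _) U).hom a) := fun a => by
    have h := IsFractionRing.stabilizerHom_apply_apply_mk G P Q (Y.residueField (p x))
      (X.residueField x) σ a
    rw [hσ] at h
    exact h
  have e : (ρ σ.1⁻¹).hom x = x := by
    have h2 := congrArg (fun m => m (hV.primeIdealOf ⟨x, hxV⟩))
      (hV.SpecMap_appLE_fromSpec (ρ σ.1⁻¹).hom hV (SGA1.preimage_le_of_inv ρ p hp.inv σ.1⁻¹ U))
    change hV.fromSpec (Spec.map (pull p (ρ σ.1⁻¹).hom (hp.inv _) U) (hV.primeIdealOf ⟨x, hxV⟩)) =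
      (ρ σ.1⁻¹).hom (hV.fromSpec (hV.primeIdealOf ⟨x, hxV⟩)) at h2
    rw [hV.fromSpec_primeIdealOf] at h2
    rw [← h2]
    refine (congrArg hV.fromSpec (PrimeSpectrum.ext ?_)).trans
      (hV.fromSpec_primeIdealOf ⟨x, hxV⟩)
    ext a
    change (pull p (ρ σ.1⁻¹).hom (hp.inv _) U).hom a ∈ Q ↔ a ∈ Q
    exact Iff.trans (Iff.of_eq (congrArg (fun I : Ideal Γ(X, p ⁻¹ᵁ U) => σ.1 • a ∈ I)
      (MulAction.mem_stabilizer_iff.mp σ.2).symm)) Ideal.smul_mem_pointwise_smul_iff
  refine ⟨σ.1⁻¹, e, ?_⟩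
  ext z
  obtain ⟨a, b, rfl⟩ := eval_surj hV hxV z
  have key2 : ∀ a, ((X.residueFieldCongr e).inv ≫ (ρ σ.1⁻¹).hom.residueFieldMap x).hom
      ((X.evaluation (p ⁻¹ᵁ U) x hxV).hom a) =
      (X.evaluation (p ⁻¹ᵁ U) x hxV).hom ((pull p (ρ σ.1⁻¹).hom (hp.inv _) U).hom a) := fun a => by
    rw [CommRingCat.comp_apply, congr_inv_eval e (by rw [e]; exact hxV) hxV]
    refine (Scheme.evaluation_naturality_apply (ρ σ.1⁻¹).hom x _ a).trans ?_
    exact (eval_res (SGA1.preimage_le_of_inv ρ p hp.inv σ.1⁻¹ U) hxV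
      (((ρ σ.1⁻¹).hom.app (p ⁻¹ᵁ U)).hom a)).symm
  rw [map_div₀, map_div₀, key, key, key2, key2]

end Quot84
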