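import Groth.Agent.Quot84.Desc

/-! # Transport, locality and stable opens for quotients by finite groups -/

set_option autoImplicit false
universe u
open CategoryTheory AlgebraicGeometry TopologicalSpace Opposite

namespace Quot84

variable {X Y : Scheme.{u}} {G : Type u} [Group G] {ρ : G →* Aut X} {p : X ⟶ Y}

/-- An open stable under the action. -/
def Stable (ρ : G →* Aut X) (W : X.Opens) : Prop := ∀ g : G, W ≤ (ρ g).hom ⁻¹ᵁ W

theorem stable_preimage (hinv : ∀ g : G, (ρ g).hom ≫ p = p) (U : Y.Opens) : Stable ρ (p ⁻¹ᵁ U) :=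
  fun g => SGA1.preimage_le_of_inv ρ p hinv g U

theorem Stable.inf {W W' : X.Opens} (h : Stable ρ W) (h' : Stable ρ W') : Stable ρ (W ⊓ W') :=
  fun g _ hx => ⟨h g hx.1, h' g hx.2⟩

theorem Stable.mem_iff {W : X.Opens} (h : Stable ρ W) (g : G) (x : X) :
    (ρ g).hom x ∈ W ↔ x ∈ W := by
  refine ⟨fun hx => ?_, fun hx => h g hx⟩
  have h2 : (ρ g⁻¹).hom ((ρ g).hom x) ∈ W := h g⁻¹ hx
  rwa [← Scheme.Hom.comp_apply, ← hom_mul, inv_mul_cancel, hom_one] at h2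

/-- The action on a stable open. -/
noncomputable def stabAct {W : X.Opens} (hW : Stable ρ W) : G →* Aut W.toScheme :=
  let r : G → (W.toScheme ⟶ W.toScheme) := fun g => (ρ g).hom.resLE W W (hW g)
  have hr : ∀ g h, r (g * h) = r h ≫ r g := fun g h => by
    rw [← cancel_mono W.ι]
    simp only [r, Category.assoc, Scheme.Hom.resLE_comp_ι, Scheme.Hom.resLE_comp_ι_assoc, hom_mul]
  have h1 : r 1 = 𝟙 _ := by
    rw [← cancel_mono W.ι]
    simp only [r, Scheme.Hom.resLE_comp_ι, hom_one, Category.comp_id, Category.id_comp]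
  { toFun := fun g => ⟨r g, r g⁻¹, by rw [← hr, inv_mul_cancel, h1], by
      rw [← hr, mul_inv_cancel, h1]⟩
    map_one' := Iso.ext h1
    map_mul' := fun g h => Iso.ext (hr g h) }

theorem stabAct_comp_ι {W : X.Opens} (hW : Stable ρ W) (g : G) :
    (stabAct hW g).hom ≫ W.ι = W.ι ≫ (ρ g).hom :=
  Scheme.Hom.resLE_comp_ι _ _

theorem stabAct_homOfLE {W W' : X.Opens} (hW : Stable ρ W) (hW' : Stable ρ W') (h : W ≤ W')
    (g : G) : (stabAct hW g).hom ≫ X.homOfLE h = X.homOfLE h ≫ (stabAct hW' g).hom := by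
  rw [← cancel_mono W'.ι, Category.assoc, Category.assoc, Scheme.homOfLE_ι, stabAct_comp_ι,
    stabAct_comp_ι, Scheme.homOfLE_ι_assoc]

theorem appLE_eq_of_comp {W : X.Opens} {f' : W.toScheme ⟶ W.toScheme} {f : X ⟶ X}
    (h : f' ≫ W.ι = W.ι ≫ f) (V : W.toScheme.Opens) (e : V ≤ f' ⁻¹ᵁ V)
    (e' : W.ι ''ᵁ V ≤ f ⁻¹ᵁ (W.ι ''ᵁ V)) :
    f'.appLE V V e = f.appLE _ _ e' := by
  have h1 := Scheme.Hom.appLE_comp_appLE f' W.ι (W.ι ''ᵁ V) V V
    (by rw [Scheme.Hom.preimage_image_eq]) e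
  have h2 := Scheme.Hom.appLE_comp_appLE W.ι f (W.ι ''ᵁ V) (W.ι ''ᵁ V) V e'
    (by rw [Scheme.Hom.preimage_image_eq])
  have h3 : ∀ (a c : W.toScheme ⟶ X) (_ : a = c) (U : X.Opens)
      (ea : V ≤ a ⁻¹ᵁ U) (ec : V ≤ c ⁻¹ᵁ U), a.appLE U V ea = c.appLE U V ec := by
    rintro a _ rfl U ea ec; rfl
  have h4 := h1.trans ((h3 _ _ h _ _ _).trans h2.symm)
  rw [Scheme.Opens.ι_appLE] at h4
  have hid : ∀ (i : W.ι ''ᵁ V ⟶ W.ι ''ᵁ V), X.presheaf.map i.op = 𝟙 _ := by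
    intro i; rw [Subsingleton.elim i (𝟙 _), op_id]; exact X.presheaf.map_id _
  rw [hid] at h4
  ext s
  exact congrArg (fun f => f.hom s) h4

/-- A quotient is local on the base. -/
theorem of_local (hinv : ∀ g : G, (ρ g).hom ≫ p = p) {ι : Type*} (U : ι → Y.Opens)
    (hcov : ∀ y : Y, ∃ i, y ∈ U i)
    (h : ∀ i, SGA1.IsQuot (stabAct (stable_preimage hinv (U i))) (p ∣_ U i)) :
    SGA1.IsQuot ρ p := by
  have haff : IsAffineHom p := by
    rw [IsZariskiLocalAtTarget.iff_of_iSup_eq_top (P := @IsAffineHom) U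
      (eq_top_iff.mpr fun y _ => Opens.mem_iSup.mpr (hcov y))]
    exact fun i => (h i).affine
  refine isQuot_of_basis p ρ haff hinv (B := {V | ∃ i W, V = (U i).ι ''ᵁ W}) ?_ ?_ ?_
  · rw [Opens.isBasis_iff_nbhd]
    intro V y hy
    obtain ⟨i, hi⟩ := hcov y
    exact ⟨_, ⟨i, (U i).ι ⁻¹ᵁ V, rfl⟩, ⟨⟨y, hi⟩, hy, rfl⟩, Set.image_preimage_subset _ _⟩
  · rintro _ ⟨i, W, rfl⟩ s t hst
    refine (h i).injective W ?_
    rw [morphismRestrict_app]
    exact congrArg (X.presheaf.map _).hom hst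
  · rintro _ ⟨i, W, rfl⟩ s hs
    have e := image_morphismRestrict_preimage p (U i) W
    let r : Γ(X, p ⁻¹ᵁ ((U i).ι ''ᵁ W)) ≅ Γ(X, (p ⁻¹ᵁ U i).ι ''ᵁ ((p ∣_ U i) ⁻¹ᵁ W)) :=
      X.presheaf.mapIso (eqToIso e).op
    obtain ⟨t, ht⟩ := ((h i).range_iff W (r.hom.hom s)).mpr fun g => by
      refine (congrArg (fun m => m.hom (r.hom.hom s)) (appLE_eq_of_comp (stabAct_comp_ι _ g) _
        (SGA1.preimage_le_of_inv _ (p ∣_ U i) (h i).inv g W)
        (by rw [e]; exact SGA1.preimage_le_of_inv ρ p hinv g ((U i).ι ''ᵁ W)))).trans ?_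
      rw [show (ρ g).hom.appLE _ _ _ = r.inv ≫
        pull p (ρ g).hom (hinv g) ((U i).ι ''ᵁ W) ≫ r.hom by
          simp [r, pull, Scheme.Hom.map_appLE, Scheme.Hom.appLE_map]]
      change r.hom.hom ((pull p (ρ g).hom _ _).hom (r.inv.hom (r.hom.hom s))) = _
      rw [← CommRingCat.comp_apply r.hom r.inv, r.hom_inv_id]
      exact congrArg r.hom.hom (hs g)
    refine ⟨t, r.commRingCatIsoToRingEquiv.injective (Eq.trans ?_ ht)⟩
    rw [morphismRestrict_app]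
    rfl

/-- Transport along isomorphisms of the source and of the target. -/
theorem of_iso (hp : SGA1.IsQuot ρ p) {X' Y' : Scheme.{u}} (ρ' : G →* Aut X') (e : X' ≅ X)
    (e' : Y ≅ Y') (he : ∀ g, (ρ' g).hom ≫ e.hom = e.hom ≫ (ρ g).hom) :
    SGA1.IsQuot ρ' (e.hom ≫ p ≫ e'.hom) := by
  have := hp.affine
  let q := e.hom ≫ p ≫ e'.hom
  have hinv : ∀ g, (ρ' g).hom ≫ q = q := fun g => by
    simp only [q, ← Category.assoc, he]; simp [hp.inv g]
  have happ : ∀ V, q.app V = e'.hom.app V ≫ p.app (e'.hom ⁻¹ᵁ V) ≫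
      e.hom.app (p ⁻¹ᵁ (e'.hom ⁻¹ᵁ V)) := fun V => by
    simp only [q, Scheme.Hom.comp_app]; exact Category.assoc _ _ _
  refine ⟨inferInstance, hinv, fun V => ?_, fun V s => ⟨?_, fun hs => ?_⟩⟩
  · rw [happ]
    exact (ConcreteCategory.bijective_of_isIso
      (e.hom.app (p ⁻¹ᵁ (e'.hom ⁻¹ᵁ V)))).injective.comp ((hp.injective _).comp
        (ConcreteCategory.bijective_of_isIso (e'.hom.app V)).injective)
  · rintro ⟨t, rfl⟩ g
    exact app_pull_apply q (hinv g) V t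
  · obtain ⟨a, rfl⟩ := (ConcreteCategory.bijective_of_isIso
      (e.hom.app (p ⁻¹ᵁ (e'.hom ⁻¹ᵁ V)))).surjective s
    obtain ⟨t, rfl⟩ := (hp.range_iff (e'.hom ⁻¹ᵁ V) a).mpr fun g => by
      apply (ConcreteCategory.bijective_of_isIso (e.hom.app (p ⁻¹ᵁ (e'.hom ⁻¹ᵁ V)))).injective
      refine Eq.trans ?_ (hs g)
      refine congrArg (fun m => m.hom a) (?_ :
        (ρ g).hom.appLE _ _ (SGA1.preimage_le_of_inv ρ p hp.inv g (e'.hom ⁻¹ᵁ V)) ≫ e.hom.app _ =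
          e.hom.app _ ≫ (ρ' g).hom.appLE _ _ (SGA1.preimage_le_of_inv ρ' q hinv g V))
      rw [Scheme.Hom.app_eq_appLE, Scheme.Hom.appLE_comp_appLE]
      refine Eq.trans ?_ (Scheme.Hom.appLE_comp_appLE (ρ' g).hom e.hom _ _ _ le_rfl
        (SGA1.preimage_le_of_inv ρ' q hinv g V)).symm
      have key : ∀ (a c : X' ⟶ X) (_ : a = c) (U : X.Opens) (W : X'.Opens)
          (ea : W ≤ a ⁻¹ᵁ U) (ec : W ≤ c ⁻¹ᵁ U), a.appLE U W ea = c.appLE U W ec := by
        rintro a _ rfl U W ea ec; rfl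
      exact key _ _ (he g).symm _ _ _ _
    obtain ⟨t', rfl⟩ := (ConcreteCategory.bijective_of_isIso (e'.hom.app V)).surjective t
    exact ⟨t', congrArg (fun m => m.hom t') (happ V)⟩

end Quot84
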