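import Groth.Agent.Quot84.Finiteness
import Groth.Agent.SpFP87.EtLocInst

/-! # Quotients of unramified algebras by finite groups are projective -/

set_option autoImplicit false
universe u
open CategoryTheory AlgebraicGeometry TopologicalSpace Opposite
open scoped TensorProduct

namespace Quot84

section Ring

variable {C A G : Type*} [CommRing C] [CommRing A] [Algebra C A] [Group G] [Fintype G]
  [MulSemiringAction G A] [SMulCommClass G C A]

variable (C) in
/-- `a ⊗ b ↦ g(a) h(b)`. -/
noncomputable def μ (g h : G) : A ⊗[C] A →ₐ[C] A :=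
  Algebra.TensorProduct.productMap (MulSemiringAction.toAlgHom C A g) (MulSemiringAction.toAlgHom C A h)

theorem μ_tmul (g h : G) (a b : A) : μ C g h (a ⊗ₜ b) = g • a * h • b := rfl

variable [Algebra.EssFiniteType C A] [Algebra.FormallyUnramified C A]

variable (C A) in
/-- The locus where `g` and `h` agree. -/
noncomputable def Fix (g h : G) : A := μ C g h (Algebra.FormallyUnramified.elem C A)

theorem fix_smul (g h : G) (a : A) : g • a * Fix C A g h = h • a * Fix C A g h := by
  have := congrArg (μ C g h) (Algebra.FormallyUnramified.one_tmul_mul_elem (R := C) a)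
  simp only [map_mul, μ_tmul, smul_one, one_mul, mul_one] at this
  exact this.symm

theorem fix_self (g : G) : Fix C A g g = 1 := by
  have : ∀ z : A ⊗[C] A, μ C g g z = g • Algebra.TensorProduct.lmul' C z := by
    intro z
    induction z with
    | zero => simp
    | tmul a b => simp [μ_tmul, smul_mul']
    | add x y hx hy => simp [map_add, hx, hy]
  rw [Fix, this, Algebra.FormallyUnramified.lmul_elem, smul_one]

theorem fix_mul_μ (g h j : G) (z : A ⊗[C] A) :
    Fix C A g h * μ C g j z = Fix C A g h * μ C h j z := by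
  induction z with
  | zero => simp
  | tmul a b =>
    rw [μ_tmul, μ_tmul, ← mul_assoc, ← mul_assoc, mul_comm _ (g • a), mul_comm _ (h • a), fix_smul]
  | add x y hx hy => simp only [map_add, mul_add, hx, hy]

theorem fix_symm (g h : G) : Fix C A g h = Fix C A h g := by
  have h1 : Fix C A g h * Fix C A h g = Fix C A g h := by
    rw [Fix, Fix, ← Fix, ← fix_mul_μ g h g, ← Fix, fix_self, mul_one]
  have h2 : Fix C A h g * Fix C A g h = Fix C A h g := by
    rw [Fix, Fix, ← Fix, ← fix_mul_μ h g h, ← Fix, fix_self, mul_one]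
  rw [← h1, mul_comm, h2]

theorem fix_trans (h g j : G) : Fix C A h g * Fix C A g j = Fix C A h g * Fix C A h j :=
  (fix_mul_μ h g j _).symm

theorem smul_fix (k g h : G) : k • Fix C A g h = Fix C A (k * g) (k * h) := by
  have : ∀ z : A ⊗[C] A, k • μ C g h z = μ C (k * g) (k * h) z := by
    intro z
    induction z with
    | zero => simp
    | tmul a b => simp [μ_tmul, smul_mul', mul_smul]
    | add x y hx hy => simp [map_add, smul_add, hx, hy]
  exact this _

variable (C A) in
/-- A system of representatives. -/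
def IsRep (w : G → A) : Prop := ∀ h : G, ∑ g, Fix C A h g * w g = 1

theorem sum_rep_eq {u w : G → A} (hu : IsRep C A u) (hw : IsRep C A w) (a : A) :
    ∑ g, u g * g • a = ∑ g, w g * g • a := by
  calc ∑ h, u h * h • a = ∑ h, ∑ g, u h * (Fix C A h g * w g) * h • a := by
        refine Finset.sum_congr rfl fun h _ => ?_
        rw [← Finset.sum_mul, ← Finset.mul_sum, hw h, mul_one]
    _ = ∑ h, ∑ g, (Fix C A g h * u h) * (w g * g • a) := by
        refine Finset.sum_congr rfl fun h _ => Finset.sum_congr rfl fun g _ => ?_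
        rw [fix_symm g h]
        linear_combination (u h * w g) * fix_smul (C := C) h g a
    _ = ∑ g, w g * g • a := by
        rw [Finset.sum_comm]
        refine Finset.sum_congr rfl fun g _ => ?_
        rw [← Finset.sum_mul, hu g, one_mul]

theorem isRep_smul {w : G → A} (hw : IsRep C A w) (k : G) :
    IsRep C A (fun g => k • w (k⁻¹ * g)) := by
  intro h
  have := congrArg (k • ·) (hw (k⁻¹ * h))
  simp only [Finset.smul_sum, smul_mul', smul_one, smul_fix] at this
  rw [← this]
  exact Fintype.sum_equiv (Equiv.mulLeft k⁻¹) _ _ fun g => by simp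

variable (C A G) in
theorem exists_isRep : ∃ w : G → A, IsRep C A w := by
  classical
  let e := Fintype.equivFin G
  let : LinearOrder G := LinearOrder.lift' e e.injective
  refine ⟨fun g => ∏ j ∈ Finset.univ.filter (· < g), (1 - Fix C A g j), fun h => ?_⟩
  have key : ∀ g, Fix C A h g * ∏ j ∈ Finset.univ.filter (· < g), (1 - Fix C A g j) =
      Fix C A h g * ∏ j ∈ Finset.univ.filter (· < g), (1 - Fix C A h j) := by
    intro g
    generalize Finset.univ.filter (· < g) = s
    induction s using Finset.induction with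
    | empty => simp
    | insert a s ha ih =>
      rw [Finset.prod_insert ha, Finset.prod_insert ha]
      calc Fix C A h g * ((1 - Fix C A g a) * ∏ j ∈ s, (1 - Fix C A g j))
          = (1 - Fix C A h a) * (Fix C A h g * ∏ j ∈ s, (1 - Fix C A g j)) := by
            linear_combination (-(∏ j ∈ s, (1 - Fix C A g j))) * fix_trans (C := C) (A := A) h g a
        _ = Fix C A h g * ((1 - Fix C A h a) * ∏ j ∈ s, (1 - Fix C A h j)) := by rw [ih]; ring
  rw [Finset.sum_congr rfl fun g _ => key g]
  have h0 : ∏ g, (1 - Fix C A h g) = 0 :=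
    Finset.prod_eq_zero (Finset.mem_univ h) (by rw [fix_self, sub_self])
  rw [Finset.prod_one_sub_ordered] at h0
  exact (sub_eq_zero.mp h0).symm

variable {R : Type*} [CommRing R] [Algebra R A] [Algebra.IsInvariant R A G] [SMulCommClass G R A]

/-- The invariant sum over representatives, landing in the invariants, gives a finite projective
presentation. -/
theorem projective_of_unramified (C : Type*) [CommRing C] [Algebra C A] [SMulCommClass G C A]
    [Algebra.EssFiniteType C A] [Algebra.FormallyUnramified C A]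
    (hinj : Function.Injective (algebraMap R A)) :
    Module.Projective R A ∧ Module.Finite R A := by
  obtain ⟨S, hS⟩ := TensorProduct.exists_finset (Algebra.FormallyUnramified.elem C A)
  obtain ⟨w, hw⟩ := exists_isRep C A G
  have hT : ∀ a : A, ∃ r : R, algebraMap R A r = ∑ g, w g * g • a := fun a =>
    Algebra.IsInvariant.isInvariant (A := R) (G := G) _ fun k => by
      conv_rhs => rw [← sum_rep_eq (isRep_smul hw k) hw a]
      simp only [Finset.smul_sum, smul_mul', ← mul_smul]
      exact Fintype.sum_equiv (Equiv.mulLeft k) _ _ fun g => by simp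
  choose T hT using hT
  let i : A →ₗ[R] (↥S → R) :=
    { toFun := fun a j => T (j.1.2 * a)
      map_add' := fun a b => funext fun j => hinj (by
        simp only [Pi.add_apply, map_add, hT, mul_add, smul_add, Finset.sum_add_distrib])
      map_smul' := fun r a => funext fun j => hinj (by
        simp only [RingHom.id_apply, Pi.smul_apply, smul_eq_mul, map_mul, hT, mul_smul_comm,
          Finset.mul_sum, ← Algebra.smul_def]
        exact Finset.sum_congr rfl fun g _ => by rw [smul_comm g r, mul_smul_comm]) }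
  let s : (↥S → R) →ₗ[R] A :=
    ∑ j : ↥S, (LinearMap.proj (R := R) (φ := fun _ : ↥S => R) j).smulRight j.1.1
  have hsi : s.comp i = LinearMap.id := by
    ext a
    simp only [LinearMap.comp_apply, LinearMap.sum_apply, LinearMap.smulRight_apply,
      LinearMap.proj_apply, LinearMap.id_apply, i, s, LinearMap.coe_mk, AddHom.coe_mk]
    simp only [Algebra.smul_def, hT, Finset.sum_mul, smul_mul']
    rw [Finset.sum_comm]
    have hfix : ∀ g : G, ∑ j : ↥S, w g * (g • j.1.2 * g • a) * j.1.1 =
        a * (Fix C A 1 g * w g) := by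
      intro g
      have h1 : Fix C A 1 g = ∑ j : ↥S, j.1.1 * g • j.1.2 := by
        rw [Fix, hS, map_sum, Finset.sum_coe_sort S (fun j => j.1 * g • j.2)]
        simp [μ_tmul]
      calc ∑ j : ↥S, w g * (g • j.1.2 * g • a) * j.1.1
          = g • a * Fix C A 1 g * w g := by
            rw [h1, Finset.mul_sum, Finset.sum_mul]
            exact Finset.sum_congr rfl fun j _ => by ring
        _ = a * (Fix C A 1 g * w g) := by
            have := fix_smul (C := C) 1 g a
            rw [one_smul] at this
            rw [← this, mul_assoc]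
    rw [Finset.sum_congr rfl fun g _ => hfix g, ← Finset.mul_sum, hw 1, mul_one]
  exact ⟨Module.Projective.of_split i s hsi, Module.Finite.of_surjective s fun a =>
    ⟨i a, LinearMap.congr_fun hsi a⟩⟩

end Ring

variable {X Y Z : Scheme.{u}} {G : Type u} [Group G] [Finite G] {ρ : G →* Aut X} {p : X ⟶ Y}

theorem app_flat_and_fp (hp : SGA1.IsQuot ρ p) (q : Y ⟶ Z) [LocallyOfFiniteType (p ≫ q)]
    [FormallyUnramified (p ≫ q)] {W : Y.Opens} (hW : IsAffineOpen W) {V : Z.Opens}
    (hV : IsAffineOpen V) (e : W ≤ q ⁻¹ᵁ V) :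
    (p.app W).hom.Flat ∧ (p.app W).hom.FinitePresentation := by
  cases nonempty_fintype G
  have := hp.affine
  have hpW : IsAffineOpen (p ⁻¹ᵁ W) := hW.preimage p
  let := act hp.inv W
  let := (p.app W).hom.toAlgebra
  let := (q.appLE V W e ≫ p.app W).hom.toAlgebra
  have := isInvariant hp W
  have := smulCommClass hp W
  have he : q.appLE V W e ≫ p.app W = (p ≫ q).appLE V (p ⁻¹ᵁ W) (p.preimage_mono e) := by
    rw [p.app_eq_appLE, Scheme.Hom.appLE_comp_appLE]
  have : SMulCommClass G Γ(Z, V) Γ(X, p ⁻¹ᵁ W) := ⟨fun g c a => by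
    rw [Algebra.smul_def, Algebra.smul_def, MulSemiringAction.smul_mul]
    congr 1
    exact app_pull_apply p (hp.inv g⁻¹) W ((q.appLE V W e).hom c)⟩
  have : Algebra.FiniteType Γ(Z, V) Γ(X, p ⁻¹ᵁ W) := by
    change (q.appLE V W e ≫ p.app W).hom.FiniteType
    rw [he]
    exact (p ≫ q).finiteType_appLE hV hpW _
  have : Algebra.FormallyUnramified Γ(Z, V) Γ(X, p ⁻¹ᵁ W) := by
    change (q.appLE V W e ≫ p.app W).hom.FormallyUnramified
    rw [he]
    exact HasRingHomProperty.appLE @FormallyUnramified (p ≫ q) inferInstance ⟨V, hV⟩ ⟨_, hpW⟩ _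
  obtain ⟨_, _⟩ := projective_of_unramified (G := G) (R := Γ(Y, W)) (A := Γ(X, p ⁻¹ᵁ W))
    Γ(Z, V) (hp.injective W)
  have : Module.FinitePresentation Γ(Y, W) Γ(X, p ⁻¹ᵁ W) :=
    Module.finitePresentation_of_projective _ _
  exact ⟨(Module.Flat.of_projective : Module.Flat Γ(Y, W) Γ(X, p ⁻¹ᵁ W)),
    (inferInstance : Algebra.FinitePresentation Γ(Y, W) Γ(X, p ⁻¹ᵁ W))⟩

theorem etale_of_formallyUnramified (hp : SGA1.IsQuot ρ p) (q : Y ⟶ Z)
    [LocallyOfFiniteType (p ≫ q)] [FormallyUnramified (p ≫ q)] : Etale p := by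
  have := hp.affine
  have : FormallyUnramified p := FormallyUnramified.of_comp p q
  let ι := {W : Y.Opens // IsAffineOpen W ∧ ∃ V, IsAffineOpen V ∧ W ≤ q ⁻¹ᵁ V}
  have hcov : ⨆ i : ι, i.1 = ⊤ := eq_top_iff.mpr fun y _ => by
    obtain ⟨V, hV, hyV, -⟩ := exists_isAffineOpen_mem_and_subset (x := q y) (U := ⊤) trivial
    obtain ⟨W, hW, hyW, hWV⟩ := exists_isAffineOpen_mem_and_subset (x := y) (U := q ⁻¹ᵁ V) hyV
    exact Opens.mem_iSup.mpr ⟨⟨W, hW, V, hV, hWV⟩, hyW⟩
  have key : ∀ i : ι, Flat (p ∣_ i.1) ∧ LocallyOfFinitePresentation (p ∣_ i.1) := by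
    rintro ⟨W, hW, V, hV, hWV⟩
    have : IsAffine W.toScheme := hW
    have : IsAffine (p ⁻¹ᵁ W).toScheme := hW.preimage p
    rw [HasRingHomProperty.iff_of_isAffine (P := @Flat),
      HasRingHomProperty.iff_of_isAffine (P := @LocallyOfFinitePresentation),
      morphismRestrict_appTop]
    obtain ⟨hf, hfp⟩ := app_flat_and_fp hp q (W := W.ι ''ᵁ ⊤) (by
      rw [Scheme.Opens.ι_image_top]; exact hW) hV (by rw [Scheme.Opens.ι_image_top]; exact hWV)
    refine ⟨RingHom.Flat.comp hf (RingHom.Flat.of_bijective
      (ConcreteCategory.bijective_of_isIso _)), RingHom.FinitePresentation.comp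
      (RingHom.FinitePresentation.of_bijective (ConcreteCategory.bijective_of_isIso _)) hfp⟩
  have : Flat p := (IsZariskiLocalAtTarget.iff_of_iSup_eq_top (P := @Flat) _ hcov).mpr
    fun i => (key i).1
  have : LocallyOfFinitePresentation p := (IsZariskiLocalAtTarget.iff_of_iSup_eq_top
    (P := @LocallyOfFinitePresentation) _ hcov).mpr fun i => (key i).2
  exact Etale.of_formallyUnramified_of_flat p

theorem etale_desc (hp : SGA1.IsQuot ρ p) (q : Y ⟶ Z) [Etale (p ≫ q)] : Etale q :=
  Groth.Agent.SpFP87.EtLoc.of_cover (P := @Etale) p q (etale_of_formallyUnramified hp q)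
    ⟨surjective hp⟩ ‹_›

theorem isFinite_desc [IsLocallyNoetherian Z] (hp : SGA1.IsQuot ρ p) (q : Y ⟶ Z)
    [IsFinite (p ≫ q)] : IsFinite q := by
  have := (isAffineHom_iff hp q).mp inferInstance
  have := (isSeparated_iff hp q).mp inferInstance
  have := locallyOfFiniteType_desc hp q
  have := quasiCompact_desc hp q
  have : Surjective p := ⟨surjective hp⟩
  have : UniversallyClosed q := UniversallyClosed.of_comp_surjective p q
  have : IsProper q := IsProper.mk
  exact IsFinite.iff_isProper_and_isAffineHom.mpr ⟨inferInstance, inferInstance⟩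

end Quot84
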